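import Groth.Agent.L02.Radicial
import Mathlib.RingTheory.Localization.Integer
import Mathlib.RingTheory.Finiteness.ModuleFinitePresentation
import Mathlib.RingTheory.Flat.Basic
import Mathlib.LinearAlgebra.TensorProduct.Basis
import Mathlib.FieldTheory.PurelyInseparable.Basic
import Mathlib.RingTheory.Localization.Away.Basic
import Mathlib.RingTheory.Localization.BaseChange
import Mathlib.LinearAlgebra.FreeModule.Basic

/-!
# Finite free models of finite purely inseparable field extensions
-/

set_option autoImplicit false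
set_option linter.style.haveILetI false
set_option maxSynthPendingDepth 3
set_option backward.isDefEq.respectTransparency.types false
set_option backward.isDefEq.respectTransparency false

universe u

open TensorProduct

namespace Groth.L20.SmoothStrat

variable {R K L : Type u} [CommRing R] [Field K] [Algebra R K] [Field L] [Algebra K L] [Algebra R L]
  [IsScalarTower R K L]

/-- A finite algebra defined over `R` with generic fibre `L`, given structure constants in `R`. -/
theorem exists_finite_algebra (M : Submonoid R) [IsLocalization M K] {n : ℕ} (e : Module.Basis (Fin n) K L)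
    (h1 : ∀ l, e.repr 1 l ∈ Set.range (algebraMap R K))
    (h2 : ∀ i j l, e.repr (e i * e j) l ∈ Set.range (algebraMap R K)) :
    ∃ (A : Type u) (_ : CommRing A) (_ : Algebra R A) (φ : A →ₐ[R] L),
      Algebra.FinitePresentation R A ∧ ∃ x : Fin n → A, (∀ i, φ (x i) = e i) ∧
        Submodule.span R (Set.range x) = ⊤ := by
  classical
  choose d hd using h1
  choose a ha using h2
  let P := MvPolynomial (Fin n) R
  let rel : Option (Fin n × Fin n) → P := fun o => o.elim (1 - ∑ l, MvPolynomial.C (d l) * MvPolynomial.X l)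
    fun ij => MvPolynomial.X ij.1 * MvPolynomial.X ij.2 -
      ∑ l, MvPolynomial.C (a ij.1 ij.2 l) * MvPolynomial.X l
  let I : Ideal P := Ideal.span (Set.range rel)
  have hI : I.FG := ⟨Finset.univ.image rel, by simp [I]⟩
  have hrep : ∀ z : L, ∀ c : Fin n → R, (∀ l, algebraMap R K (c l) = e.repr z l) →
      ∑ l, algebraMap R L (c l) * e l = z := by
    intro z c hc
    conv_rhs => rw [← e.sum_repr z]
    refine Finset.sum_congr rfl fun l _ => ?_
    rw [Algebra.smul_def, ← hc, ← IsScalarTower.algebraMap_apply]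
  have hker : ∀ p ∈ I, MvPolynomial.aeval (fun i => e i) p = (0 : L) := by
    intro p hp
    refine (Ideal.span_le (I := RingHom.ker (MvPolynomial.aeval (fun i => e i) : P →ₐ[R] L))).2 ?_ hp
    rintro _ ⟨o, rfl⟩
    cases o with
    | none => simp [rel, hrep 1 d hd]
    | some ij => simp [rel, hrep _ _ (ha ij.1 ij.2)]
  let x : Fin n → P ⧸ I := fun i => Ideal.Quotient.mk I (MvPolynomial.X i)
  have hz : ∀ o, Ideal.Quotient.mk I (rel o) = 0 := fun o =>
    Ideal.Quotient.eq_zero_iff_mem.2 (Ideal.subset_span ⟨o, rfl⟩)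
  have hC : ∀ (c : R) (l : Fin n), Ideal.Quotient.mk I (MvPolynomial.C c * MvPolynomial.X l) = c • x l := by
    intro c l
    rw [← MvPolynomial.smul_eq_C_mul]
    exact Submodule.Quotient.mk_smul I c (MvPolynomial.X l)
  refine ⟨P ⧸ I, inferInstance, inferInstance, Ideal.Quotient.liftₐ I (MvPolynomial.aeval fun i => e i) hker,
    Algebra.FinitePresentation.quotient hI, x, fun i => MvPolynomial.aeval_X _ i, ?_⟩
  let N := Submodule.span R (Set.range x)
  have hx : ∀ i, x i ∈ N := fun i => Submodule.subset_span ⟨i, rfl⟩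
  have h1 : (1 : P ⧸ I) ∈ N := by
    have := hz none
    simp only [rel, Option.elim, map_sub, map_one, sub_eq_zero, map_sum, hC] at this
    rw [this]
    exact N.sum_mem fun l _ => N.smul_mem _ (hx l)
  have h2 : ∀ i j, x i * x j ∈ N := by
    intro i j
    have := hz (some (i, j))
    simp only [rel, Option.elim, map_sub, map_mul, sub_eq_zero, map_sum] at this
    show Ideal.Quotient.mk I (MvPolynomial.X i) * Ideal.Quotient.mk I (MvPolynomial.X j) ∈ N
    rw [this]
    refine N.sum_mem fun l _ => ?_
    rw [← map_mul, hC]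
    exact N.smul_mem _ (hx l)
  refine eq_top_iff.2 fun z _ => ?_
  obtain ⟨p, rfl⟩ := Ideal.Quotient.mk_surjective z
  induction p using MvPolynomial.induction_on with
  | C c =>
    have : Ideal.Quotient.mk I (MvPolynomial.C c) = c • (1 : P ⧸ I) := by
      rw [MvPolynomial.C_eq_smul_one]
      exact Submodule.Quotient.mk_smul I c (1 : P)
    rw [this]
    exact N.smul_mem _ h1
  | add p q hp hq => rw [map_add]; exact N.add_mem (hp trivial) (hq trivial)
  | mul_X p i hp =>
    rw [map_mul]
    have h3 : ∀ w ∈ N, w * x i ∈ N := fun w hw => by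
      induction hw using Submodule.span_induction with
      | mem w hw => obtain ⟨j, rfl⟩ := hw; exact h2 j i
      | zero => rw [zero_mul]; exact N.zero_mem
      | add w w' _ _ hw hw' => rw [add_mul]; exact N.add_mem hw hw'
      | smul c w _ hw => rw [smul_mul_assoc]; exact N.smul_mem _ hw
    exact h3 _ (hp trivial)

/-- Nilpotency of the diagonal of a purely inseparable extension. -/
theorem isNilpotent_one_tmul_sub [IsPurelyInseparable K L] (y : L) :
    IsNilpotent ((1 : L) ⊗ₜ[K] y - y ⊗ₜ[K] (1 : L)) := by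
  set z := (1 : L) ⊗ₜ[K] y - y ⊗ₜ[K] (1 : L) with hz
  obtain ⟨m, hm, a, ha⟩ := IsPurelyInseparable.exists_pow_mem_range_tensorProduct z
  have h0 : Algebra.TensorProduct.lmul' K z = 0 := by simp [hz]
  refine ⟨m, ?_⟩
  have h1 : Algebra.TensorProduct.lmul' K (z ^ m) = 0 := by rw [map_pow, h0, zero_pow (by omega)]
  rw [← ha] at h1 ⊢
  rw [Algebra.TensorProduct.algebraMap_apply] at h1 ⊢
  simp only [Algebra.TensorProduct.lmul'_apply_tmul, Algebra.algebraMap_self, RingHom.id_apply, mul_one] at h1
  simp [h1]

/-- An element of `R` killing a combination which vanishes generically. -/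
theorem exists_kill (M : Submonoid R) [IsLocalization M K] {ι : Type*} [Finite ι] {V W : Type u}
    [AddCommGroup V] [Module R V] [AddCommGroup W] [Module R W] [Module K W] [IsScalarTower R K W]
    (φ : V →ₗ[R] W) (x : ι → V) (e : Module.Basis ι K W) (he : ∀ i, φ (x i) = e i)
    (hx : Submodule.span R (Set.range x) = ⊤) {v : V} (hv : φ v = 0) : ∃ s ∈ M, s • v = 0 := by
  classical
  haveI := Fintype.ofFinite ι
  obtain ⟨c, rfl⟩ := (Submodule.mem_span_range_iff_exists_fun R).1 (hx ▸ Submodule.mem_top : v ∈ _)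
  have h0 : ∀ i, algebraMap R K (c i) = 0 := by
    refine Fintype.linearIndependent_iff.1 e.linearIndependent (fun i => algebraMap R K (c i)) ?_
    rw [← hv, map_sum]
    exact Finset.sum_congr rfl fun i _ => by rw [map_smul, he, algebraMap_smul]
  choose s hs using fun i => (IsLocalization.map_eq_zero_iff M K (c i)).1 (h0 i)
  refine ⟨(∏ i, s i : M), SetLike.coe_mem _, ?_⟩
  rw [Finset.smul_sum]
  refine Finset.sum_eq_zero fun i _ => ?_
  rw [smul_smul, Submonoid.coe_finset_prod, ← Finset.prod_erase_mul _ _ (Finset.mem_univ i), mul_assoc,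
    hs i, mul_zero, zero_smul]

/-- A finite free radicial model of a finite purely inseparable extension of the field `M⁻¹R`,
given structure constants in `R`. -/
theorem exists_free_model (M : Submonoid R) [IsLocalization M K] [IsPurelyInseparable K L] {n : ℕ}
    (e : Module.Basis (Fin n) K L) (h1 : ∀ l, e.repr 1 l ∈ Set.range (algebraMap R K))
    (h2 : ∀ i j l, e.repr (e i * e j) l ∈ Set.range (algebraMap R K)) :
    ∃ g ∈ M, ∃ (A : Type u) (_ : CommRing A) (_ : Algebra (Localization.Away g) A) (_ : Algebra R A)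
      (_ : IsScalarTower R (Localization.Away g) A) (_ : Algebra A L) (_ : IsScalarTower R A L)
      (_ : Module.Basis (Fin n) (Localization.Away g) A),
      IsLocalization (Algebra.algebraMapSubmonoid A M) L ∧ Algebra.FinitePresentation (Localization.Away g) A ∧
      ∀ s : A, IsNilpotent ((1 : A) ⊗ₜ[Localization.Away g] s - s ⊗ₜ[Localization.Away g] (1 : A)) := by
  classical
  obtain ⟨A₀, _, _, φ, hfp, x, hφx, hx⟩ := exists_finite_algebra M e h1 h2
  haveI := hfp
  haveI : Module.Finite R A₀ := ⟨hx ▸ Submodule.fg_span (Set.finite_range x)⟩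
  haveI : Module.FinitePresentation R A₀ := Module.FinitePresentation.of_finite_of_finitePresentation R A₀
  let π : (Fin n → R) →ₗ[R] A₀ := Fintype.linearCombination R x
  have hπ : Function.Surjective π := LinearMap.range_eq_top.1 ((Fintype.range_linearCombination R x).trans hx)
  obtain ⟨G, hG⟩ := Module.FinitePresentation.fg_ker π hπ
  have hkG : ∀ r ∈ G, ∃ s ∈ M, s • r = 0 := by
    intro r hr
    have hr' : π r = 0 := LinearMap.mem_ker.1 (hG ▸ Submodule.subset_span hr)
    have h0 : ∀ i, algebraMap R K (r i) = 0 := by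
      refine Fintype.linearIndependent_iff.1 e.linearIndependent (fun i => algebraMap R K (r i)) ?_
      have := congrArg φ hr'
      rw [map_zero, Fintype.linearCombination_apply, map_sum] at this
      rw [← this]
      exact Finset.sum_congr rfl fun i _ => by rw [map_smul, hφx, algebraMap_smul]
    choose t ht using fun i => (IsLocalization.map_eq_zero_iff M K (r i)).1 (h0 i)
    refine ⟨(∏ i, t i : M), SetLike.coe_mem _, funext fun i => ?_⟩
    rw [Pi.smul_apply, Submonoid.coe_finset_prod, smul_eq_mul, ← Finset.prod_erase_mul _ _ (Finset.mem_univ i),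
      mul_assoc, ht i, mul_zero, Pi.zero_apply]
  let ψ : A₀ ⊗[R] A₀ →ₐ[R] L ⊗[K] L := Algebra.TensorProduct.lift
    (((Algebra.TensorProduct.includeLeft : L →ₐ[K] L ⊗[K] L).restrictScalars R).comp φ)
    (((Algebra.TensorProduct.includeRight : L →ₐ[K] L ⊗[K] L).restrictScalars R).comp φ)
    (fun _ _ => Commute.all _ _)
  have hkz : ∀ i, ∃ N : ℕ, ∃ s ∈ M, s • ((1 : A₀) ⊗ₜ[R] x i - x i ⊗ₜ[R] (1 : A₀)) ^ N = 0 := by
    intro i
    obtain ⟨N, hN⟩ := isNilpotent_one_tmul_sub (K := K) (e i)
    refine ⟨N, exists_kill M ψ.toLinearMap (fun p : Fin n × Fin n => x p.1 ⊗ₜ[R] x p.2) (e.tensorProduct e)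
      (fun p => by simp [ψ, hφx, Module.Basis.tensorProduct_apply']) ?_ ?_⟩
    · refine eq_top_iff.2 fun w _ => ?_
      induction w using TensorProduct.induction_on with
      | zero => exact zero_mem _
      | add a b ha hb => exact add_mem (ha trivial) (hb trivial)
      | tmul a b =>
        obtain ⟨ca, rfl⟩ := (Submodule.mem_span_range_iff_exists_fun R).1 (hx ▸ Submodule.mem_top : a ∈ _)
        obtain ⟨cb, rfl⟩ := (Submodule.mem_span_range_iff_exists_fun R).1 (hx ▸ Submodule.mem_top : b ∈ _)
        rw [sum_tmul]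
        refine Submodule.sum_mem _ fun a _ => ?_
        rw [tmul_sum]
        refine Submodule.sum_mem _ fun b _ => ?_
        rw [smul_tmul_smul]
        exact Submodule.smul_mem _ _ (Submodule.subset_span ⟨(a, b), rfl⟩)
    · rw [AlgHom.toLinearMap_apply, map_pow, map_sub, ← hN]
      simp [ψ, hφx]
  choose t htM ht using hkG
  choose N u huM hu using hkz
  let g : R := (∏ r : G, t r.1 r.2) * ∏ i, u i
  have hgM : g ∈ M := M.mul_mem (prod_mem fun r _ => htM r.1 r.2) (prod_mem fun i _ => huM i)
  have hgG : ∀ r ∈ (Submodule.span R (G : Set (Fin n → R))), g • r = 0 := by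
    intro r hr
    induction hr using Submodule.span_induction with
    | mem r hr =>
      rw [show g = (∏ i, u i) * (∏ w : G, t w.1 w.2) from mul_comm _ _,
        ← Finset.prod_erase_mul _ _ (Finset.mem_univ (⟨r, hr⟩ : G)), ← mul_assoc, mul_smul, ht r hr, smul_zero]
    | zero => rw [smul_zero]
    | add r r' _ _ hr hr' => rw [smul_add, hr, hr', add_zero]
    | smul c r _ hr => rw [smul_comm, hr, smul_zero]
  have hgz : ∀ i, g • ((1 : A₀) ⊗ₜ[R] x i - x i ⊗ₜ[R] (1 : A₀)) ^ N i = 0 := by
    intro i
    rw [show g = (∏ w : G, t w.1 w.2) * ∏ j, u j from rfl, ← Finset.prod_erase_mul _ _ (Finset.mem_univ i),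
      ← mul_assoc, mul_smul, hu i, smul_zero]
  let Rg := Localization.Away g
  have hgu : IsUnit (algebraMap R Rg g) := IsLocalization.Away.algebraMap_isUnit g
  let jK : Rg →+* K := IsLocalization.Away.lift g (IsLocalization.map_units K ⟨g, hgM⟩)
  letI : Algebra Rg K := jK.toAlgebra
  haveI : IsScalarTower R Rg K := IsScalarTower.of_algebraMap_eq fun r =>
    (IsLocalization.Away.lift_eq g (IsLocalization.map_units K ⟨g, hgM⟩) r).symm
  letI : Algebra Rg L := ((algebraMap K L).comp jK).toAlgebra
  haveI : IsScalarTower Rg K L := IsScalarTower.of_algebraMap_eq fun _ => rfl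
  haveI : IsScalarTower R Rg L := IsScalarTower.of_algebraMap_eq fun r => by
    rw [IsScalarTower.algebraMap_apply Rg K L, ← IsScalarTower.algebraMap_apply R Rg K,
      ← IsScalarTower.algebraMap_apply R K L]
  haveI : IsLocalization (M.map (algebraMap R Rg)) K :=
    IsLocalization.isLocalization_of_submonoid_le Rg K (Submonoid.powers g) M
      (by rintro _ ⟨m, rfl⟩; exact M.pow_mem hgM m)
  let A := Rg ⊗[R] A₀
  let Φ : A →ₐ[Rg] L := Algebra.TensorProduct.lift (Algebra.ofId Rg L) φ (fun _ _ => Commute.all _ _)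
  letI : Algebra A L := Φ.toRingHom.toAlgebra
  haveI : IsScalarTower R A L := IsScalarTower.of_algebraMap_eq fun r => by
    show algebraMap R L r = Φ (algebraMap R A r)
    rw [IsScalarTower.algebraMap_apply R Rg A, AlgHom.commutes, ← IsScalarTower.algebraMap_apply]
  let y : Fin n → A := fun i => (1 : Rg) ⊗ₜ[R] x i
  have hΦy : ∀ i, Φ (y i) = e i := fun i => by
    show Algebra.TensorProduct.lift (Algebra.ofId Rg L) φ _ ((1 : Rg) ⊗ₜ[R] x i) = e i
    rw [Algebra.TensorProduct.lift_tmul, map_one, one_mul, hφx]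
  have hspan : Submodule.span Rg (Set.range y) = ⊤ := by
    refine eq_top_iff.2 fun w _ => ?_
    induction w using TensorProduct.induction_on with
    | zero => exact zero_mem _
    | add a b ha hb => exact add_mem (ha trivial) (hb trivial)
    | tmul c b =>
      obtain ⟨cb, rfl⟩ := (Submodule.mem_span_range_iff_exists_fun R).1 (hx ▸ Submodule.mem_top : b ∈ _)
      rw [tmul_sum]
      refine Submodule.sum_mem _ fun i _ => ?_
      have hy : (cb i • c) ⊗ₜ[R] x i = (cb i • c) • y i := by
        show _ = (cb i • c) • ((1 : Rg) ⊗ₜ[R] x i)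
        rw [smul_tmul' (cb i • c) (1 : Rg) (x i), smul_eq_mul (cb i • c) (1 : Rg), mul_one]
      rw [← smul_tmul, hy]
      exact Submodule.smul_mem _ _ (Submodule.subset_span ⟨i, rfl⟩)
  -- a coordinate map
  let q : (Fin n → R) →ₗ[R] (Fin n → Rg) :=
    LinearMap.pi fun i => (Algebra.linearMap R Rg).comp (LinearMap.proj i)
  have hq : LinearMap.ker π ≤ LinearMap.ker q := by
    intro r hr
    rw [LinearMap.mem_ker]
    funext i
    show algebraMap R Rg (r i) = 0
    refine hgu.mul_right_eq_zero.1 ?_
    rw [← map_mul, ← smul_eq_mul, ← Pi.smul_apply, hgG r (by rw [hG]; exact hr), Pi.zero_apply, map_zero]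
  let ρ₀ : A₀ →ₗ[R] (Fin n → Rg) :=
    ((LinearMap.ker π).liftQ q hq).comp (LinearMap.quotKerEquivOfSurjective π hπ).symm.toLinearMap
  have hρ : ∀ i, ρ₀ (x i) = Pi.single i 1 := by
    intro i
    have h : π (Pi.single i 1) = x i := by simp [π, Fintype.linearCombination_apply]
    have h' : (LinearMap.quotKerEquivOfSurjective π hπ).symm (x i) = Submodule.Quotient.mk (Pi.single i 1) := by
      rw [LinearEquiv.symm_apply_eq, LinearMap.quotKerEquivOfSurjective_apply_mk, h]
    show (LinearMap.ker π).liftQ q hq ((LinearMap.quotKerEquivOfSurjective π hπ).symm (x i)) = _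
    rw [h', Submodule.liftQ_apply]
    funext j
    by_cases hij : j = i
    · subst hij; simp [q]
    · simp [q, hij]
  let ρ : A →ₗ[Rg] (Fin n → Rg) := ρ₀.liftBaseChange Rg
  have hli : LinearIndependent Rg y := by
    refine LinearIndependent.of_comp ρ ?_
    have : (ρ ∘ y) = fun i => (Pi.single i 1 : Fin n → Rg) := funext fun i => by
      show LinearMap.liftBaseChange Rg ρ₀ ((1 : Rg) ⊗ₜ[R] x i) = _
      rw [LinearMap.liftBaseChange_tmul, one_smul, hρ]
    rw [this]
    exact Pi.linearIndependent_single_one (Fin n) Rg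
  let b : Module.Basis (Fin n) Rg A := Module.Basis.mk hli hspan.ge
  refine ⟨g, hgM, A, inferInstance, inferInstance, inferInstance, inferInstance, inferInstance,
    inferInstance, b, ?_, inferInstance, ?_⟩
  · refine ⟨?_, ?_, ?_⟩
    · rintro ⟨_, m, hm, rfl⟩
      rw [← IsScalarTower.algebraMap_apply, IsScalarTower.algebraMap_apply R K L]
      exact (IsLocalization.map_units K ⟨m, hm⟩).map _
    · intro z
      choose r hr using fun i => IsLocalization.surj M (e.repr z i)
      obtain ⟨w, hw⟩ := IsLocalization.exist_integer_multiples M (Finset.univ : Finset (Fin n)) (fun i => e.repr z i)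
      choose c hc using fun i => hw i (Finset.mem_univ i)
      refine ⟨(∑ i, algebraMap R Rg (c i) • y i, ⟨algebraMap R A w, w, w.2, rfl⟩), ?_⟩
      show z * algebraMap A L (algebraMap R A w) = Φ (∑ i, algebraMap R Rg (c i) • y i)
      rw [← IsScalarTower.algebraMap_apply, map_sum]
      conv_lhs => rw [← e.sum_repr z, Finset.sum_mul]
      refine Finset.sum_congr rfl fun i _ => ?_
      rw [map_smul, hΦy, algebraMap_smul, mul_comm, ← Algebra.smul_def, ← smul_assoc, ← hc i, algebraMap_smul]
    · intro a a' haa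
      obtain ⟨m, ⟨r, hr, hrm⟩, hm⟩ := exists_kill (R := Rg) (K := K) (M.map (algebraMap R Rg)) Φ.toLinearMap y e hΦy hspan
        (v := a - a') (by rw [AlgHom.toLinearMap_apply, map_sub, sub_eq_zero]; exact haa)
      refine ⟨⟨algebraMap R A r, r, hr, rfl⟩, ?_⟩
      rw [← hrm, Algebra.smul_def, ← IsScalarTower.algebraMap_apply, mul_sub, sub_eq_zero] at hm
      exact hm
  · intro s
    rw [← mem_nilradical]
    suffices H : ∀ i, (1 : A) ⊗ₜ[Rg] y i - y i ⊗ₜ[Rg] (1 : A) ∈ nilradical (A ⊗[Rg] A) by
      have hs : s ∈ Submodule.span Rg (Set.range y) := hspan ▸ Submodule.mem_top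
      induction hs using Submodule.span_induction with
      | mem w hw => obtain ⟨i, rfl⟩ := hw; exact H i
      | zero => simp
      | add a b _ _ ha hb =>
        rw [tmul_add, add_tmul, add_sub_add_comm]
        exact add_mem ha hb
      | smul c a _ ha =>
        rw [tmul_smul, ← smul_tmul', ← smul_sub]
        exact Submodule.smul_of_tower_mem _ c ha
    intro i
    let ι₀ : A₀ →ₐ[R] A := Algebra.TensorProduct.includeRight
    let θ : A₀ ⊗[R] A₀ →ₐ[R] A ⊗[Rg] A := Algebra.TensorProduct.lift
      (((Algebra.TensorProduct.includeLeft : A →ₐ[Rg] A ⊗[Rg] A).restrictScalars R).comp ι₀)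
      (((Algebra.TensorProduct.includeRight : A →ₐ[Rg] A ⊗[Rg] A).restrictScalars R).comp ι₀)
      (fun a b => mul_comm _ _)
    refine mem_nilradical.2 ⟨N i, ?_⟩
    have h := congrArg θ (hgz i)
    rw [map_smul, map_zero, map_pow, map_sub] at h
    have e1 : θ ((1 : A₀) ⊗ₜ[R] x i) = (1 : A) ⊗ₜ[Rg] y i := by simp [θ, ι₀, y, Algebra.TensorProduct.includeRight_apply]; rfl
    have e2 : θ (x i ⊗ₜ[R] (1 : A₀)) = y i ⊗ₜ[Rg] (1 : A) := by simp [θ, ι₀, y, Algebra.TensorProduct.includeRight_apply]; rfl
    rw [e1, e2, ← algebraMap_smul Rg] at h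
    exact (hgu.smul_eq_zero).1 h

end Groth.L20.SmoothStrat
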