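import Groth.Agent.L20.SmoothStrat.Field
import Groth.Agent.L19.Approx.Closed
import Groth.Agent.L22.Ideal
import Mathlib.RingTheory.Localization.BaseChange
import Mathlib.AlgebraicGeometry.Morphisms.Preimmersion

/-!
# Spreading out a smooth stratification of a generic fibre
-/

set_option autoImplicit false
set_option linter.style.haveILetI false
set_option maxSynthPendingDepth 3
set_option backward.isDefEq.respectTransparency.types false
set_option backward.isDefEq.respectTransparency false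

universe u

open CategoryTheory CategoryTheory.Limits AlgebraicGeometry TopologicalSpace

namespace Groth.L20.SmoothStrat

/-- Stalk maps of flat preimmersions are bijective. -/
theorem isIso_stalkMap {P W : Scheme.{u}} (q : P ⟶ W) [IsPreimmersion q] [Flat q] (z : P) :
    IsIso (q.stalkMap z) := by
  rw [ConcreteCategory.isIso_iff_bijective]
  refine ⟨?_, q.stalkMap_surjective z⟩
  letI := (q.stalkMap z).hom.toAlgebra
  haveI : Module.Flat (W.presheaf.stalk (q z)) (P.presheaf.stalk z) := Flat.stalkMap q z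
  haveI : IsLocalHom (algebraMap (W.presheaf.stalk (q z)) (P.presheaf.stalk z)) :=
    inferInstanceAs (IsLocalHom (q.stalkMap z).hom)
  haveI : Module.FaithfullyFlat (W.presheaf.stalk (q z)) (P.presheaf.stalk z) :=
    Module.FaithfullyFlat.of_flat_of_isLocalHom
  exact FaithfulSMul.algebraMap_injective (W.presheaf.stalk (q z)) (P.presheaf.stalk z)

/-- Smoothness at the points of a base change along a flat preimmersion. -/
theorem formallySmooth_stalkMap_of_isPullback {W' W S' S : Scheme.{u}} {q : W' ⟶ W} {h' : W' ⟶ S'}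
    {h : W ⟶ S} {i : S' ⟶ S} (sq : IsPullback q h' h i) [IsPreimmersion i] [Flat i] [Smooth h'] (z : W') :
    (h.stalkMap (q z)).hom.FormallySmooth := by
  haveI : IsPreimmersion q := MorphismProperty.of_isPullback sq.flip inferInstance
  haveI : Flat q := MorphismProperty.of_isPullback sq.flip inferInstance
  haveI := isIso_stalkMap q z
  haveI := isIso_stalkMap i (h' z)
  have h1 : (h'.stalkMap z).hom.FormallySmooth :=
    show z ∈ h'.smoothLocus from h'.smoothLocus_eq_top ▸ trivial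
  have h2 : ((h' ≫ i).stalkMap z).hom.FormallySmooth := by
    rw [Scheme.Hom.stalkMap_comp]
    exact (RingHom.FormallySmooth.respectsIso.cancel_left_isIso _ _).2 h1
  rw [Scheme.Hom.stalkMap_congr_hom _ _ sq.w.symm, Scheme.Hom.stalkMap_comp] at h2
  have h3 : (h.stalkMap (q z) ≫ q.stalkMap z).hom.FormallySmooth :=
    (RingHom.FormallySmooth.respectsIso.cancel_left_isIso _ _).1 h2
  exact (RingHom.FormallySmooth.respectsIso.cancel_right_isIso _ _).1 h3

/-- A base change along a flat preimmersion is smooth where the original morphism is. -/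
theorem formallySmooth_stalkMap_snd {W' W S' S : Scheme.{u}} {q : W' ⟶ W} {h' : W' ⟶ S'}
    {h : W ⟶ S} {i : S' ⟶ S} (sq : IsPullback q h' h i) [IsPreimmersion i] [Flat i] (z : W')
    (hz : (h.stalkMap (q z)).hom.FormallySmooth) : (h'.stalkMap z).hom.FormallySmooth := by
  haveI : IsPreimmersion q := MorphismProperty.of_isPullback sq.flip inferInstance
  haveI : Flat q := MorphismProperty.of_isPullback sq.flip inferInstance
  haveI := isIso_stalkMap q z
  haveI := isIso_stalkMap i (h' z)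
  have h2 : ((q ≫ h).stalkMap z).hom.FormallySmooth := by
    rw [Scheme.Hom.stalkMap_comp]
    exact (RingHom.FormallySmooth.respectsIso.cancel_right_isIso _ _).2 hz
  rw [Scheme.Hom.stalkMap_congr_hom _ _ sq.w, Scheme.Hom.stalkMap_comp] at h2
  have h3 : (i.stalkMap (h' z) ≫ h'.stalkMap z).hom.FormallySmooth :=
    (RingHom.FormallySmooth.respectsIso.cancel_left_isIso _ _).1 h2
  exact (RingHom.FormallySmooth.respectsIso.cancel_left_isIso _ _).1 h3

/-- Inverse images of finite type ideals are of finite type. -/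
theorem fg_comap {X' X : Scheme.{u}} (π : X' ⟶ X) (K : X.IdealSheafData)
    (hK : ∀ V : X.affineOpens, (K.ideal V).FG) (V : X'.affineOpens) : ((K.comap π).ideal V).FG := by
  choose U W e hx _ _ using fun x : X' =>
    Groth.L22.Ideals.exists_affine_pair π x (W := ⊤) trivial (W' := ⊤) trivial
  refine Groth.L19.Approx.fg_of_le_iSup _ V W (fun x _ => Opens.mem_iSup.2 ⟨x, hx x⟩) fun x => ?_
  rw [Groth.L22.Ideals.comap_ideal π K (U x) (W x) (e x)]
  exact (hK _).map _

/-- The strata of the inverse image ideals are the base changes of the strata. -/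
theorem exists_isPullback_stratum {X' X : Scheme.{u}} (π : X' ⟶ X) (A B : X.IdealSheafData) :
    ∃ q, IsPullback q (stratum (A.comap π) (B.comap π)) (stratum A B) π := by
  let q₀ := Scheme.IdealSheafData.subschemeMap (A.comap π) A π (A.le_map_comap π)
  have sq : IsPullback (A.comap π).subschemeι q₀ π A.subschemeι :=
    isPullback_of_isClosedImmersion _ _ _ _ (Scheme.IdealSheafData.subschemeMap_subschemeι _ _ _ _).symm
      (by rw [Scheme.IdealSheafData.ker_subschemeι, Scheme.IdealSheafData.ker_subschemeι])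
  have hO : (A.comap π).subschemeι ⁻¹ᵁ (B.comap π).support.compl =
      q₀ ⁻¹ᵁ (A.subschemeι ⁻¹ᵁ B.support.compl) := by
    ext x
    show (A.comap π).subschemeι x ∈ ((B.comap π).support : Set X')ᶜ ↔
      A.subschemeι (q₀ x) ∈ (B.support : Set X)ᶜ
    rw [Scheme.IdealSheafData.support_comap, ← Scheme.Hom.comp_apply q₀,
      Scheme.IdealSheafData.subschemeMap_subschemeι, Scheme.Hom.comp_apply]
    rfl
  obtain ⟨q, hq⟩ : ∃ q, IsPullback q ((A.comap π).subschemeι ⁻¹ᵁ (B.comap π).support.compl).ι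
      (A.subschemeι ⁻¹ᵁ B.support.compl).ι q₀ := by
    rw [hO]
    exact ⟨_, isPullback_morphismRestrict q₀ (A.subschemeι ⁻¹ᵁ B.support.compl)⟩
  exact ⟨q, hq.paste_vert sq.flip⟩

/-- The complement of the support of a finite type ideal is quasi-compact. -/
theorem isCompact_compl_support {X : Scheme.{u}} [CompactSpace X] (B : X.IdealSheafData)
    (hB : ∀ V : X.affineOpens, (B.ideal V).FG) :
    IsCompact ((B.support.compl : X.Opens) : Set X) := by
  obtain ⟨s, hs, hcov⟩ := Groth.L19.Approx.exists_finite_affineOpens (U := (⊤ : X.Opens)) isCompact_univ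
  have : ((B.support.compl : X.Opens) : Set X) = ⋃ V ∈ s, ((V.1 : Set X) \ B.support) := by
    ext x
    simp only [Set.mem_iUnion, Set.mem_diff]
    refine ⟨fun hx => ?_, fun ⟨_, _, _, hx⟩ => hx⟩
    have hxt : x ∈ (⊤ : X.Opens) := trivial
    rw [hcov, Opens.mem_iSup] at hxt
    obtain ⟨V, hV⟩ := hxt
    exact ⟨V.1, V.2, hV, hx⟩
  rw [this]
  refine hs.isCompact_biUnion fun V _ => ?_
  obtain ⟨G, hG⟩ := hB V
  have hd : (V.1 : Set X) \ B.support = ⋃ b ∈ G, (X.basicOpen b : Set X) := by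
    ext x
    simp only [Set.mem_diff, Set.mem_iUnion]
    constructor
    · rintro ⟨hxV, hx⟩
      rw [SetLike.mem_coe, Scheme.IdealSheafData.mem_support_iff_of_mem hxV, ← hG,
        Scheme.zeroLocus_span, Scheme.mem_zeroLocus_iff] at hx
      push Not at hx
      obtain ⟨b, hb, hxb⟩ := hx
      exact ⟨b, hb, hxb⟩
    · rintro ⟨b, hb, hxb⟩
      have hxV := X.basicOpen_le b hxb
      refine ⟨hxV, fun hx => ?_⟩
      rw [SetLike.mem_coe, Scheme.IdealSheafData.mem_support_iff_of_mem hxV, ← hG,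
        Scheme.zeroLocus_span, Scheme.mem_zeroLocus_iff] at hx
      exact hx b hb hxb
  rw [hd]
  exact G.finite_toSet.isCompact_biUnion fun b _ => (V.2.basicOpen b).isCompact

/-- A stratum between finite type ideals is quasi-compact. -/
theorem compactSpace_stratum {X : Scheme.{u}} [CompactSpace X] (A B : X.IdealSheafData)
    (hB : ∀ V : X.affineOpens, (B.ideal V).FG) :
    CompactSpace (A.subschemeι ⁻¹ᵁ B.support.compl).toScheme :=
  isCompact_iff_compactSpace.1
    (QuasiCompact.isCompact_preimage _ B.support.compl.2 (isCompact_compl_support B hB))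

/-- A closed subset missing the local fibre over a prime misses a basic neighbourhood. -/
theorem exists_notMem {R : Type u} [CommRing R] (η : Ideal R) [η.IsPrime] {W : Scheme.{u}}
    [CompactSpace W] (p : W ⟶ Spec (CommRingCat.of R)) (C : Set W) (hC : IsClosed C)
    (h : ∀ x ∈ C, ¬ (p x).asIdeal ≤ η) : ∃ g ∉ η, ∀ x ∈ C, g ∈ (p x).asIdeal := by
  classical
  obtain ⟨s, hs, hcov⟩ := Groth.L19.Approx.exists_finite_affineOpens (U := (⊤ : W.Opens)) isCompact_univ
  have key : ∀ V : W.affineOpens, ∃ g ∉ η, ∀ x ∈ C, x ∈ V.1 → g ∈ (p x).asIdeal := by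
    intro V
    obtain ⟨φ, hφ⟩ := Spec.map_surjective (V.2.fromSpec ≫ p)
    let I := PrimeSpectrum.vanishingIdeal (V.2.fromSpec ⁻¹' C)
    by_cases hd : Disjoint (I : Set Γ(W, V.1)) (η.primeCompl.map φ.hom : Set Γ(W, V.1))
    · obtain ⟨P, hP, hIP, hPd⟩ := Ideal.exists_le_prime_disjoint I _ hd
      let z : Spec Γ(W, V.1) := ⟨P, hP⟩
      have hz : z ∈ V.2.fromSpec ⁻¹' C := by
        have : z ∈ PrimeSpectrum.zeroLocus (I : Set Γ(W, V.1)) := hIP
        rwa [PrimeSpectrum.zeroLocus_vanishingIdeal_eq_closure,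
          (hC.preimage V.2.fromSpec.continuous).closure_eq] at this
      refine absurd ?_ (h _ hz)
      rw [← Scheme.Hom.comp_apply, ← hφ]
      intro a ha
      by_contra han
      exact Set.disjoint_left.1 hPd ha ⟨a, han, rfl⟩
    · obtain ⟨_, hI, g, hg, rfl⟩ := Set.not_disjoint_iff.1 hd
      refine ⟨g, hg, fun x hxC hxV => ?_⟩
      obtain ⟨z, rfl⟩ : x ∈ Set.range V.2.fromSpec := by rw [V.2.range_fromSpec]; exact hxV
      rw [← Scheme.Hom.comp_apply, ← hφ]
      exact (PrimeSpectrum.mem_vanishingIdeal _ _).1 hI z hxC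
  choose g hg hgC using key
  refine ⟨∏ V ∈ hs.toFinset, g V, fun hmem => ?_, fun x hx => ?_⟩
  · obtain ⟨V, _, hV⟩ := (‹η.IsPrime›.prod_mem_iff).1 hmem
    exact hg V hV
  · have hxt : x ∈ (⊤ : W.Opens) := trivial
    rw [hcov, Opens.mem_iSup] at hxt
    obtain ⟨V, hV⟩ := hxt
    exact Ideal.prod_mem _ (hs.mem_toFinset.2 V.2) (hgC V x hx hV)

section Localization

variable {R' L : Type u} [CommRing R'] [Field L] [Algebra R' L] (M : Submonoid R') [IsLocalization M L]
variable {X₀ XL : Scheme.{u}} {f₀ : X₀ ⟶ Spec (CommRingCat.of R')} {π : XL ⟶ X₀}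
  {fL : XL ⟶ Spec (CommRingCat.of L)}

include M in
/-- An ideal of the generic fibre is the inverse image of one of finite type. -/
theorem exists_fg_lift [LocallyOfFiniteType f₀] [QuasiCompact f₀] [QuasiSeparated f₀]
    (sq : IsPullback π fL f₀ (Spec.map (CommRingCat.ofHom (algebraMap R' L)))) (J : XL.IdealSheafData) :
    ∃ K : X₀.IdealSheafData, (∀ V : X₀.affineOpens, (K.ideal V).FG) ∧ K.comap π = J := by
  classical
  haveI : IsAffineHom π := MorphismProperty.of_isPullback sq.flip inferInstance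
  haveI : LocallyOfFiniteType fL := MorphismProperty.of_isPullback sq inferInstance
  haveI : IsLocallyNoetherian XL := LocallyOfFiniteType.isLocallyNoetherian fL
  haveI : CompactSpace X₀ := QuasiCompact.compactSpace_of_compactSpace f₀
  haveI : QuasiSeparatedSpace X₀ := (HasAffineProperty.iff_of_isAffine (P := @QuasiSeparated)).1 ‹QuasiSeparated f₀›
  haveI : IsAffine (⊤ : (Spec (CommRingCat.of R')).Opens).toScheme := isAffineOpen_top _
  haveI : IsAffine (⊤ : (Spec (CommRingCat.of L)).Opens).toScheme := isAffineOpen_top _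
  -- the sections over an affine piece of the generic fibre are a localisation
  have hloc : ∀ V : X₀.affineOpens, (J.ideal ⟨_, V.2.preimage π⟩) =
      (((J.map π).ideal V)).map (π.app V.1).hom := by
    intro V
    rw [Scheme.IdealSheafData.ideal_map_of_isAffineHom]
    haveI : IsAffine V.1.toScheme := V.2
    have hpb := Scheme.Hom.isPullback_resLE sq (US := ⊤) (UX := V.1) (UT := ⊤) (by simp) (by simp)
      (UY := π ⁻¹ᵁ V.1) (by simp)
    have hpo : IsPushout (f₀.appLE ⊤ V.1 (by simp))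
        ((Spec.map (CommRingCat.ofHom (algebraMap R' L))).appLE ⊤ ⊤ (by simp))
        (π.appLE V.1 (π ⁻¹ᵁ V.1) le_rfl) (fL.appLE ⊤ (π ⁻¹ᵁ V.1) (by simp)) := by
      refine (isPushout_appTop_of_isPullback hpb).of_iso (Scheme.Opens.topIso ⊤) V.1.topIso
        (Scheme.Opens.topIso ⊤) (π ⁻¹ᵁ V.1).topIso ?_ ?_ ?_ ?_ <;>
      simp only [Scheme.Hom.appTop, Scheme.Hom.resLE_app_top, Category.assoc, Iso.inv_hom_id, Category.comp_id]
    let e₁ := Scheme.ΓSpecIso (CommRingCat.of R')
    let e₂ := Scheme.ΓSpecIso (CommRingCat.of L)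
    have hpo' : IsPushout (e₁.inv ≫ f₀.appLE ⊤ V.1 (by simp)) (CommRingCat.ofHom (algebraMap R' L))
        (π.appLE V.1 (π ⁻¹ᵁ V.1) le_rfl) (e₂.inv ≫ fL.appLE ⊤ (π ⁻¹ᵁ V.1) (by simp)) := by
      refine hpo.of_iso e₁ (Iso.refl _) e₂ (Iso.refl _) ?_ ?_ ?_ ?_
      · simp
      · rw [show (Spec.map (CommRingCat.ofHom (algebraMap R' L))).appLE ⊤ ⊤ (by simp) =
          (Spec.map (CommRingCat.ofHom (algebraMap R' L))).appTop from Scheme.Hom.appLE_eq_app _]
        exact Scheme.ΓSpecIso_naturality (CommRingCat.ofHom (algebraMap R' L))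
      · simp
      · simp
    rw [Scheme.Hom.app_eq_appLE]
    algebraize [(e₁.inv ≫ f₀.appLE ⊤ V.1 (by simp)).hom, (π.appLE V.1 (π ⁻¹ᵁ V.1) le_rfl).hom,
      (e₂.inv ≫ fL.appLE ⊤ (π ⁻¹ᵁ V.1) (by simp)).hom,
      ((π.appLE V.1 (π ⁻¹ᵁ V.1) le_rfl).hom.comp (e₁.inv ≫ f₀.appLE ⊤ V.1 (by simp)).hom)]
    haveI : IsScalarTower R' L Γ(XL, π ⁻¹ᵁ V.1) :=
      IsScalarTower.of_algebraMap_eq' (congrArg CommRingCat.Hom.hom hpo'.w)
    haveI : Algebra.IsPushout R' Γ(X₀, V.1) L Γ(XL, π ⁻¹ᵁ V.1) :=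
      CommRingCat.isPushout_iff_isPushout.mp hpo'
    haveI : Algebra.IsPushout R' L Γ(X₀, V.1) Γ(XL, π ⁻¹ᵁ V.1) := ‹Algebra.IsPushout R' Γ(X₀, V.1) L _›.symm
    haveI := (Algebra.isLocalization_iff_isPushout (S := M) (T := Γ(X₀, V.1)) L (B := Γ(XL, π ⁻¹ᵁ V.1))).2 inferInstance
    exact (IsLocalization.map_under (Algebra.algebraMapSubmonoid Γ(X₀, V.1) M) Γ(XL, π ⁻¹ᵁ V.1) _).symm
  -- finitely many sections suffice
  obtain ⟨s, hs, hcov⟩ := Groth.L19.Approx.exists_finite_affineOpens (U := (⊤ : X₀.Opens)) isCompact_univ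
  have hV : ∀ V : X₀.affineOpens, ∃ G : Finset Γ(X₀, V.1), ↑G ⊆ ((J.map π).ideal V : Set Γ(X₀, V.1)) ∧
      J.ideal ⟨_, V.2.preimage π⟩ ≤ (Ideal.span (G : Set Γ(X₀, V.1))).map (π.app V.1).hom := by
    intro V
    haveI : IsNoetherianRing Γ(XL, π ⁻¹ᵁ V.1) :=
      IsLocallyNoetherian.component_noetherian ⟨_, V.2.preimage π⟩
    have hfg : (J.ideal ⟨_, V.2.preimage π⟩).FG := IsNoetherian.noetherian _
    rw [hloc V, Ideal.map] at hfg
    obtain ⟨t, ht, ht'⟩ := (Submodule.fg_span_iff_fg_span_finset_subset _).mp hfg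
    obtain ⟨G, hG, rfl⟩ := Finset.subset_set_image_iff.mp ht
    refine ⟨G, hG, ?_⟩
    rw [hloc V, Ideal.map_span, Ideal.map, ← Finset.coe_image]
    exact ht'.le
  choose G hG hJG using hV
  choose K hK hKfg hKG using fun V : X₀.affineOpens =>
    fun (b : G V) => Groth.L19.Approx.exists_fgOn_mem (J.map π) V (hG V b.2)
  haveI := hs.to_subtype
  haveI : Fintype s := Fintype.ofFinite _
  let K' : X₀.IdealSheafData := Finset.univ.sup fun p : Σ V : s, G V.1 => K p.1.1 p.2
  refine ⟨K', fun V => ?_, ?_⟩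
  · have : Groth.L19.Approx.FGOn K' ⊤ := Finset.sup_induction (p := fun K => Groth.L19.Approx.FGOn K ⊤)
      (Groth.L19.Approx.fgOn_bot ⊤) (fun _ h _ h' => h.sup h') (fun p _ => hKfg p.1.1 p.2)
    exact this V le_top
  have hle : K' ≤ J.map π := Finset.sup_le fun p _ => hK p.1.1 p.2
  refine le_antisymm (Scheme.IdealSheafData.le_map_iff_comap_le.1 hle) ?_
  refine Scheme.IdealSheafData.le_of_iSup_eq_top (fun V : s => (⟨_, V.1.2.preimage π⟩ : XL.affineOpens)) ?_ ?_
  · rw [← Scheme.Hom.preimage_iSup, ← hcov, Scheme.Hom.preimage_top]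
  intro V
  rw [Groth.L22.Ideals.comap_ideal π K' V.1 ⟨_, V.1.2.preimage π⟩ le_rfl]
  refine (hJG V.1).trans ?_
  rw [Scheme.Hom.app_eq_appLE]
  refine Ideal.map_mono (Ideal.span_le.2 fun b hb => ?_)
  exact (Finset.le_sup (f := fun p : Σ V : s, G V.1 => K p.1.1 p.2) (Finset.mem_univ ⟨V, ⟨b, hb⟩⟩) :
    K V.1 ⟨b, hb⟩ ≤ K') V.1 (hKG V.1 ⟨b, hb⟩)

end Localization

/-- Spreading out a chain of ideals with smooth strata on the generic fibre. -/
theorem exists_spread {R R' L : Type u} [CommRing R] [CommRing R'] [Algebra R R'] [Field L] [Algebra R' L]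
    (η : Ideal R) [η.IsPrime] [IsLocalization (Algebra.algebraMapSubmonoid R' η.primeCompl) L]
    {X₀ XL : Scheme.{u}} (f₀ : X₀ ⟶ Spec (CommRingCat.of R')) [LocallyOfFinitePresentation f₀]
    [QuasiCompact f₀] [QuasiSeparated f₀] {π : XL ⟶ X₀} {fL : XL ⟶ Spec (CommRingCat.of L)}
    (sq : IsPullback π fL f₀ (Spec.map (CommRingCat.ofHom (algebraMap R' L))))
    {t : ℕ} (I : Fin (t + 1) → XL.IdealSheafData) (hmono : Monotone I)
    (h0 : ((I 0).support : Set XL) = Set.univ) (hlast : I (Fin.last t) = ⊤)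
    (hsm : ∀ i : Fin t, Smooth (stratum (I i.castSucc) (I i.succ) ≫ fL)) :
    ∃ g ∉ η, ∃ J : Fin (t + 1) → X₀.IdealSheafData, Monotone J ∧ J (Fin.last t) = ⊤ ∧
      (∀ i, ∀ V : X₀.affineOpens, ((J i).ideal V).FG) ∧
      (∀ x : X₀, g ∉ ((f₀ ≫ Spec.map (CommRingCat.ofHom (algebraMap R R'))) x).asIdeal → x ∈ (J 0).support) ∧
      ∀ (i : Fin t) (w : (J i.castSucc).subschemeι ⁻¹ᵁ (J i.succ).support.compl),
        g ∉ ((stratum (J i.castSucc) (J i.succ) ≫ f₀ ≫ Spec.map (CommRingCat.ofHom (algebraMap R R'))) w).asIdeal →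
          ((stratum (J i.castSucc) (J i.succ) ≫ f₀).stalkMap w).hom.FormallySmooth := by
  classical
  haveI : CompactSpace X₀ := QuasiCompact.compactSpace_of_compactSpace f₀
  let M := Algebra.algebraMapSubmonoid R' η.primeCompl
  choose K hKfg hK using fun i => exists_fg_lift M sq (I i)
  let J : Fin (t + 1) → X₀.IdealSheafData := fun i =>
    if i = Fin.last t then ⊤ else (Finset.Iic i).sup K
  have hJI : ∀ i, (J i).comap π = I i := by
    intro i
    by_cases hi : i = Fin.last t
    · subst hi; simp [J, hlast]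
    simp only [J, if_neg hi]
    rw [Finset.comp_sup_eq_sup_comp (fun K : X₀.IdealSheafData => K.comap π)
      (fun a b => Scheme.IdealSheafData.comap_sup a b π) (Scheme.IdealSheafData.comap_bot π)]
    refine le_antisymm (Finset.sup_le fun j hj => ?_) ?_
    · exact (hK j).le.trans (hmono (Finset.mem_Iic.1 hj))
    · exact (hK i).ge.trans (Finset.le_sup (f := (fun K => K.comap π) ∘ K) (Finset.mem_Iic.2 le_rfl))
  have hJmono : Monotone J := by
    intro i j hij
    by_cases hj : j = Fin.last t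
    · simp [J, if_pos hj]
    have hi : i ≠ Fin.last t := fun h => hj (le_antisymm (Fin.le_last j) (h ▸ hij))
    simp only [J, if_neg hi, if_neg hj]
    exact Finset.sup_mono (Finset.Iic_subset_Iic.2 hij)
  have hJfg : ∀ i, ∀ V : X₀.affineOpens, ((J i).ideal V).FG := by
    intro i V
    by_cases hi : i = Fin.last t
    · simp only [J, if_pos hi, Scheme.IdealSheafData.ideal_top]
      exact ⟨{1}, by simp⟩
    · simp only [J, if_neg hi]
      exact (Finset.sup_induction (p := fun K => Groth.L19.Approx.FGOn K ⊤)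
        (Groth.L19.Approx.fgOn_bot ⊤) (fun _ h _ h' => h.sup h') (fun j _ V _ => hKfg j V)) V le_top
  -- points over the prime come from the generic fibre
  have hrange : ∀ x : X₀, ((f₀ ≫ Spec.map (CommRingCat.ofHom (algebraMap R R'))) x).asIdeal ≤ η →
      f₀ x ∈ Set.range (Spec.map (CommRingCat.ofHom (algebraMap R' L))) := by
    intro x hx
    refine (Set.ext_iff.1 (PrimeSpectrum.localization_comap_range L M) (f₀ x)).2 ?_
    refine Set.disjoint_left.2 ?_
    rintro _ ⟨m, hm, rfl⟩ hmem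
    exact hm (hx hmem)
  haveI : IsPreimmersion (Spec.map (CommRingCat.ofHom (algebraMap R' L))) := IsPreimmersion.of_isLocalization M
  haveI : Flat (Spec.map (CommRingCat.ofHom (algebraMap R' L))) := by
    rw [HasRingHomProperty.Spec_iff (P := @Flat)]
    exact RingHom.flat_algebraMap_iff.2 (IsLocalization.flat L M)
  let C₀ : X₀.Opens := (J 0).support.compl
  haveI : CompactSpace C₀.toScheme := isCompact_iff_compactSpace.1 (isCompact_compl_support (J 0) (hJfg 0))
  obtain ⟨g₀, hg₀, hg₀'⟩ := exists_notMem η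
    (C₀.ι ≫ f₀ ≫ Spec.map (CommRingCat.ofHom (algebraMap R R'))) Set.univ isClosed_univ (by
    intro x _ hx
    rw [Scheme.Hom.comp_apply] at hx
    obtain ⟨ℓ, hℓ⟩ := hrange _ hx
    obtain ⟨z, hz, -⟩ := Scheme.exists_preimage_of_isPullback sq _ ℓ hℓ.symm
    refine x.2 (?_ : C₀.ι x ∈ ((J 0).support : Set X₀))
    rw [← hz]
    have hz' : z ∈ ((I 0).support : Set XL) := h0 ▸ trivial
    rwa [← hJI 0, Scheme.IdealSheafData.support_comap] at hz')
  have key : ∀ i : Fin t, ∃ g ∉ η, ∀ w : (J i.castSucc).subschemeι ⁻¹ᵁ (J i.succ).support.compl,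
        g ∉ ((stratum (J i.castSucc) (J i.succ) ≫ f₀ ≫ Spec.map (CommRingCat.ofHom (algebraMap R R'))) w).asIdeal →
          ((stratum (J i.castSucc) (J i.succ) ≫ f₀).stalkMap w).hom.FormallySmooth := by
    intro i
    haveI : LocallyOfFinitePresentation (J i.castSucc).subschemeι :=
      Groth.L19.Approx.lfp_subschemeι fun V _ => hJfg _ V
    let h := stratum (J i.castSucc) (J i.succ) ≫ f₀
    haveI := compactSpace_stratum (J i.castSucc) (J i.succ) (hJfg _)
    obtain ⟨g, hg, hg'⟩ := exists_notMem η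
      (stratum (J i.castSucc) (J i.succ) ≫ f₀ ≫ Spec.map (CommRingCat.ofHom (algebraMap R R')))
      (h.smoothLocus : Set _)ᶜ h.smoothLocus.2.isClosed_compl (by
      intro w hw hle
      obtain ⟨q, hq⟩ := exists_isPullback_stratum π (J i.castSucc) (J i.succ)
      haveI : Smooth (stratum ((J i.castSucc).comap π) ((J i.succ).comap π) ≫ fL) :=
        smooth_stratum_congr fL (hJI _).symm (hJI _).symm (hsm i)
      obtain ⟨ℓ, hℓ⟩ := hrange (stratum (J i.castSucc) (J i.succ) w) (by rwa [← Scheme.Hom.comp_apply])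
      obtain ⟨z, hz, -⟩ := Scheme.exists_preimage_of_isPullback (hq.paste_vert sq) w ℓ
        (by rw [Scheme.Hom.comp_apply]; exact hℓ.symm)
      rw [← hz] at hw
      exact hw (formallySmooth_stalkMap_of_isPullback (hq.paste_vert sq) z))
    exact ⟨g, hg, fun w hw => by_contra fun hn => hw (hg' w hn)⟩
  choose g hg hg' using key
  refine ⟨g₀ * ∏ i, g i, ?_, J, hJmono, by simp [J], hJfg, fun x hx => ?_, fun i w hw => hg' i w ?_⟩
  · intro hmem
    rcases ‹η.IsPrime›.mem_or_mem hmem with h | h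
    · exact hg₀ h
    · obtain ⟨i, _, hi⟩ := (‹η.IsPrime›.prod_mem_iff).1 h
      exact hg i hi
  · by_contra hn
    exact hx (Ideal.mul_mem_right _ _ (hg₀' ⟨x, hn⟩ trivial))
  · exact fun h => hw (Ideal.mul_mem_left _ _ (Ideal.prod_mem _ (Finset.mem_univ i) h))

/-- A stratification smooth over a set restricts to one smooth over an open inside that set. -/
theorem exists_restrict {P X₀ Vs T : Scheme.{u}} {π₂ : P ⟶ X₀} {p : P ⟶ Vs} {f₀ : X₀ ⟶ T} {m : Vs ⟶ T}
    [IsOpenImmersion m] [LocallyOfFinitePresentation f₀] (sq : IsPullback π₂ p f₀ m) (G : T → Prop)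
    (hm : ∀ x, G (m x)) {t : ℕ} (J : Fin (t + 1) → X₀.IdealSheafData) (hmono : Monotone J)
    (hlast : J (Fin.last t) = ⊤) (hfg : ∀ i, ∀ V : X₀.affineOpens, ((J i).ideal V).FG)
    (h0 : ∀ x, G (f₀ x) → x ∈ (J 0).support)
    (hsm : ∀ (i : Fin t) (w : (J i.castSucc).subschemeι ⁻¹ᵁ (J i.succ).support.compl),
      G ((stratum (J i.castSucc) (J i.succ) ≫ f₀) w) →
        ((stratum (J i.castSucc) (J i.succ) ≫ f₀).stalkMap w).hom.FormallySmooth) :
    ∃ (t' : ℕ) (J' : Fin (t' + 1) → P.IdealSheafData), Monotone J' ∧ J' (Fin.last t') = ⊤ ∧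
      ((J' 0).support : Set P) = Set.univ ∧ (∀ i, ∀ O : P.affineOpens, ((J' i).ideal O).FG) ∧
      ∀ i : Fin t', Smooth (((J' i.castSucc).subschemeι ⁻¹ᵁ (J' i.succ).support.compl).ι ≫
        (J' i.castSucc).subschemeι ≫ p) := by
  refine ⟨t, fun i => (J i).comap π₂, fun i j hij => Scheme.IdealSheafData.comap_mono π₂ (hmono hij),
    ?_, ?_, fun i => fg_comap π₂ (J i) (hfg i), fun i => ?_⟩
  · show (J (Fin.last t)).comap π₂ = ⊤
    rw [hlast, Scheme.IdealSheafData.comap_top]
  · refine Set.eq_univ_of_forall fun x => ?_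
    rw [Scheme.IdealSheafData.support_comap]
    refine h0 (π₂ x) ?_
    rw [← Scheme.Hom.comp_apply, sq.w, Scheme.Hom.comp_apply]
    exact hm _
  obtain ⟨q, hq⟩ := exists_isPullback_stratum π₂ (J i.castSucc) (J i.succ)
  have hq' := hq.paste_vert sq
  haveI : LocallyOfFinitePresentation (J i.castSucc).subschemeι :=
    Groth.L19.Approx.lfp_subschemeι fun V _ => hfg _ V
  haveI : LocallyOfFinitePresentation (stratum ((J i.castSucc).comap π₂) ((J i.succ).comap π₂) ≫ p) :=
    MorphismProperty.of_isPullback hq' inferInstance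
  rw [← Category.assoc, ← Scheme.Hom.smoothLocus_eq_top_iff, eq_top_iff]
  intro z _
  refine formallySmooth_stalkMap_snd hq' z (hsm i (q z) ?_)
  rw [← Scheme.Hom.comp_apply, hq'.w, Scheme.Hom.comp_apply]
  exact hm _

end Groth.L20.SmoothStrat
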