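import Groth.Agent.L20.SmoothStrat.Spread
import Groth.Agent.L20.StrataScheme
import Groth.Agent.S1456
import Groth.Agent.L05.ModelFG
import Groth.Prelude.Def_Mor2

/-!
# Smoothness stratification of a quasi-compact quasi-separated base
-/

set_option autoImplicit false
set_option linter.style.haveILetI false
set_option maxSynthPendingDepth 3
set_option backward.isDefEq.respectTransparency.types false
set_option backward.isDefEq.respectTransparency false

universe u

open CategoryTheory CategoryTheory.Limits AlgebraicGeometry TopologicalSpace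

namespace Groth.L20.SmoothStrat

open Groth.L20.Strata

/-- After a finite locally free cover of `S'` the base change of `f` is stratified with smooth strata. -/
def GoodMap {X S S' : Scheme.{u}} (f : X ⟶ S) (g : S' ⟶ S) : Prop :=
  ∃ (T : Scheme.{u}) (v : T ⟶ S'), Surjective v ∧ Mor2.IsFinLocFree v ∧
    ∃ (t : ℕ) (J : Fin (t + 1) → (pullback f (v ≫ g)).IdealSheafData), Monotone J ∧ J (Fin.last t) = ⊤ ∧
      ((J 0).support : Set (pullback f (v ≫ g) : Scheme.{u})) = Set.univ ∧
      (∀ i, ∀ O : (pullback f (v ≫ g)).affineOpens, ((J i).ideal O).FG) ∧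
      ∀ i : Fin t, Smooth (stratum (J i.castSucc) (J i.succ) ≫ pullback.snd f (v ≫ g))

/-- A smooth stratification pulls back. -/
theorem exists_comap {P' P T' T : Scheme.{u}} {π : P' ⟶ P} {p' : P' ⟶ T'} {p : P ⟶ T} {w : T' ⟶ T}
    (sq : IsPullback π p' p w) {t : ℕ} (J : Fin (t + 1) → P.IdealSheafData) (hmono : Monotone J)
    (hlast : J (Fin.last t) = ⊤) (h0 : ((J 0).support : Set P) = Set.univ)
    (hfg : ∀ i, ∀ O : P.affineOpens, ((J i).ideal O).FG)
    (hsm : ∀ i : Fin t, Smooth (stratum (J i.castSucc) (J i.succ) ≫ p)) :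
    ∃ (t : ℕ) (J : Fin (t + 1) → P'.IdealSheafData), Monotone J ∧ J (Fin.last t) = ⊤ ∧
      ((J 0).support : Set P') = Set.univ ∧ (∀ i, ∀ O : P'.affineOpens, ((J i).ideal O).FG) ∧
      ∀ i : Fin t, Smooth (stratum (J i.castSucc) (J i.succ) ≫ p') := by
  refine ⟨t, fun i => (J i).comap π, fun i j h => Scheme.IdealSheafData.comap_mono π (hmono h), ?_, ?_,
    fun i => fg_comap π _ (hfg i), fun i => ?_⟩
  · show (J _).comap π = ⊤
    rw [hlast, Scheme.IdealSheafData.comap_top]
  · rw [Scheme.IdealSheafData.support_comap, Closeds.coe_preimage, h0, Set.preimage_univ]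
  · obtain ⟨q, hq⟩ := exists_isPullback_stratum π (J i.castSucc) (J i.succ)
    exact MorphismProperty.of_isPullback (hq.paste_vert sq) (hsm i)

theorem GoodMap.comp {X S S' S'' : Scheme.{u}} {f : X ⟶ S} {g : S' ⟶ S} (h : GoodMap f g) (w : S'' ⟶ S') :
    GoodMap f (w ≫ g) := by
  obtain ⟨T, v, hv, hv', t, J, hmono, hlast, h0, hfg, hsm⟩ := h
  obtain ⟨hv1, hv2, hv3⟩ := hv'
  refine ⟨pullback v w, pullback.snd v w, inferInstance, ⟨inferInstance, inferInstance, inferInstance⟩, ?_⟩
  have e : pullback.snd v w ≫ w ≫ g = pullback.fst v w ≫ v ≫ g := by rw [pullback.condition_assoc]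
  let π : pullback f (pullback.snd v w ≫ w ≫ g) ⟶ pullback f (v ≫ g) :=
    pullback.lift (pullback.fst _ _) (pullback.snd _ _ ≫ pullback.fst v w)
      (by rw [pullback.condition, e, Category.assoc])
  have sq : IsPullback π (pullback.snd _ _) (pullback.snd f (v ≫ g)) (pullback.fst v w) := by
    refine IsPullback.of_right ?_ (pullback.lift_snd _ _ _) (IsPullback.of_hasPullback f (v ≫ g))
    rw [pullback.lift_fst]
    exact e ▸ IsPullback.of_hasPullback f (pullback.snd v w ≫ w ≫ g)
  exact exists_comap sq J hmono hlast h0 hfg hsm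

theorem goodMap_iff_of_isPullback {X X' S S' T : Scheme.{u}} {f : X ⟶ S} {q : X' ⟶ X} {f' : X' ⟶ S'}
    {b : S' ⟶ S} (sq : IsPullback q f' f b) (g : T ⟶ S') : GoodMap f' g ↔ GoodMap f (g ≫ b) := by
  have key : ∀ {T' : Scheme.{u}} (v : T' ⟶ T),
      ∃ e : pullback f' (v ≫ g) ≅ pullback f (v ≫ g ≫ b),
        e.hom ≫ pullback.snd _ _ = pullback.snd _ _ := fun {T'} v => by
    have h := (IsPullback.of_hasPullback f' (v ≫ g)).paste_horiz sq
    rw [Category.assoc] at h
    exact ⟨h.isoPullback, h.isoPullback_hom_snd⟩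
  constructor
  · rintro ⟨T', v, hv, hv', t, J, hmono, hlast, h0, hfg, hsm⟩
    obtain ⟨e, he⟩ := key v
    exact ⟨T', v, hv, hv', exists_comap (w := 𝟙 T') (IsPullback.of_horiz_isIso (fst := e.inv) ⟨by
      rw [Category.comp_id, Iso.inv_comp_eq, he]⟩) J hmono hlast h0 hfg hsm⟩
  · rintro ⟨T', v, hv, hv', t, J, hmono, hlast, h0, hfg, hsm⟩
    obtain ⟨e, he⟩ := key v
    exact ⟨T', v, hv, hv', exists_comap (w := 𝟙 T') (IsPullback.of_horiz_isIso (fst := e.hom) ⟨by
      rw [Category.comp_id, he]⟩) J hmono hlast h0 hfg hsm⟩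

/-- Stratification of a Noetherian base. -/
def PieceRing {R : Type u} [CommRing R] {X : Scheme.{u}} (f : X ⟶ Spec (CommRingCat.of R)) (a : R) (J : Ideal R) :
    Prop :=
  ∀ (C : Type u) [CommRing C] [Algebra R C], IsUnit (algebraMap R C a) → J.map (algebraMap R C) = ⊥ →
    GoodMap f (Spec.map (CommRingCat.ofHom (algebraMap R C)))

theorem exists_pieceRing {R : Type u} [CommRing R] {X : Scheme.{u}} (f : X ⟶ Spec (CommRingCat.of R))
    [LocallyOfFinitePresentation f] [QuasiCompact f] [QuasiSeparated f] {I : Ideal R} (hI : I.IsRadical)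
    (hne : I ≠ ⊤) : ∃ a, a ∉ I ∧ PieceRing f a I := by
  haveI : _root_.IsReduced (R ⧸ I) := (Ideal.isRadical_iff_quotient_reduced I).mp hI
  haveI : Nontrivial (R ⧸ I) := Ideal.Quotient.nontrivial_iff.mpr hne
  haveI : IsReduced (Spec (CommRingCat.of (R ⧸ I))) := inferInstance
  let b : Spec (CommRingCat.of (R ⧸ I)) ⟶ Spec (CommRingCat.of R) :=
    Spec.map (CommRingCat.ofHom (Ideal.Quotient.mk I))
  haveI : Nonempty (Spec (CommRingCat.of (R ⧸ I)) : Scheme.{u}) :=
    inferInstanceAs (Nonempty (PrimeSpectrum (R ⧸ I)))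
  obtain ⟨W, hW⟩ : (irreducibleComponents (Spec (CommRingCat.of (R ⧸ I)) : Type u)).Nonempty :=
    ⟨_, irreducibleComponent_mem_irreducibleComponents (Classical.arbitrary _)⟩
  obtain ⟨η, hη⟩ := QuasiSober.sober hW.1 (isClosed_of_mem_irreducibleComponents W hW)
  obtain ⟨U, V, v, hηU, hv, -, hv', t, J, hmono, hlast, h0, hfg, hsm⟩ :=
    Groth.Agent.S1456.result (pullback.snd f b) η W hW hη
  obtain ⟨_, ⟨a', rfl⟩, hηa, haU⟩ :=
    PrimeSpectrum.isTopologicalBasis_basic_opens.exists_subset_of_mem_open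
      (show η ∈ U.carrier from hηU) U.2
  obtain ⟨a, rfl⟩ := Ideal.Quotient.mk_surjective a'
  refine ⟨a, fun ha => hηa ?_, fun C _ _ hu hz => ?_⟩
  · rw [Ideal.Quotient.eq_zero_iff_mem.2 ha]; exact Ideal.zero_mem _
  have hgood : GoodMap (pullback.snd f b) U.ι :=
    ⟨V, v, hv, hv', t, J, hmono, hlast, h0, hfg, fun i => by rw [Category.assoc]; exact hsm i⟩
  let φ : R ⧸ I →+* C := Ideal.Quotient.lift I (algebraMap R C) fun r hr => by
    rw [← Ideal.mem_bot, ← hz]; exact Ideal.mem_map_of_mem _ hr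
  have hrange : Set.range (Spec.map (CommRingCat.ofHom φ)) ⊆ Set.range U.ι := by
    rintro _ ⟨z, rfl⟩
    rw [Scheme.Opens.range_ι]
    refine haU fun h => ?_
    exact (PrimeSpectrum.asIdeal z).ne_top_iff_one.1 z.2.ne_top
      (Ideal.eq_top_of_isUnit_mem _ (show φ (Ideal.Quotient.mk I a) ∈ z.asIdeal from h) (by simpa [φ] using hu) ▸
        Submodule.mem_top)
  have := (goodMap_iff_of_isPullback (IsPullback.of_hasPullback f b) _).1
    (hgood.comp (IsOpenImmersion.lift U.ι _ hrange))
  rw [IsOpenImmersion.lift_fac, ← Spec.map_comp] at this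
  exact this

theorem stratified_pieceRing {A : Type u} [CommRing A] {X : Scheme.{u}} (f : X ⟶ Spec (CommRingCat.of A))
    [LocallyOfFinitePresentation f] [QuasiCompact f] [QuasiSeparated f] :
    Stratified (PieceRing f) (⊥ : Ideal A) := by
  obtain ⟨j, X₀, f₀, g, _, _, _, sq⟩ :=
    Groth.L05.DescendFP.exists_stage (Groth.L05.ModelFG.isLimitSpecCone A) (X := X) f
  let R₀ : Subalgebra ℤ A := j.unop.1
  haveI : Algebra.FiniteType ℤ R₀ := (Subalgebra.fg_iff_finiteType _).1 j.unop.2
  haveI : IsNoetherianRing R₀ := Algebra.FiniteType.isNoetherianRing ℤ _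
  let f₁ : X₀ ⟶ Spec (CommRingCat.of ↥R₀) := f₀
  haveI : LocallyOfFinitePresentation f₁ := ‹LocallyOfFinitePresentation f₀›
  haveI : QuasiCompact f₁ := ‹QuasiCompact f₀›
  haveI : QuasiSeparated f₁ := ‹QuasiSeparated f₀›
  suffices H : ∀ I₀ : Ideal R₀, Stratified (PieceRing f) (I₀.map (algebraMap R₀ A)) by
    simpa using H ⊥
  intro I₀
  induction I₀ using IsNoetherian.induction with
  | hgt I₀ ih =>
    by_cases htop : Ideal.radical I₀ = ⊤
    · rw [Ideal.radical_eq_top.mp htop, Ideal.map_top]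
      exact .top
    obtain ⟨a, ha, hP⟩ := exists_pieceRing f₁ (Ideal.radical_isRadical I₀) htop
    refine .step (algebraMap R₀ A a) ((Ideal.radical I₀).map (algebraMap R₀ A))
      (Ideal.FG.map (IsNoetherian.noetherian _) _)
      (Ideal.mul_le_right.trans (Ideal.map_radical_le _)) (fun C _ _ hu hz => ?_) ?_
    · letI : Algebra R₀ C := ((algebraMap A C).comp (algebraMap R₀ A)).toAlgebra
      have h := hP C hu (by rwa [Ideal.map_map] at hz)
      rw [RingHom.algebraMap_toAlgebra, CommRingCat.ofHom_comp, Spec.map_comp] at h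
      exact (goodMap_iff_of_isPullback sq _).2 h
    · rw [← Set.image_singleton, ← Ideal.map_span, ← Ideal.map_sup]
      exact ih _ (left_lt_sup.mpr fun h => ha (Ideal.le_radical (h (Ideal.mem_span_singleton_self a))))

variable {X S : Scheme.{u}} (f : X ⟶ S)

/-- A piece of the base over which `f` can be stratified. -/
def Piece' (O : S.affineOpens) (J : Ideal Γ(S, O.1)) : Prop :=
  GoodMap f (Spec.map (CommRingCat.ofHom (Ideal.Quotient.mk J)) ≫ O.2.fromSpec)

theorem gStrat_affine [LocallyOfFinitePresentation f] [QuasiCompact f] [QuasiSeparated f]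
    (U : S.affineOpens) (G : Set S) (hrec : ∀ G' ⊆ G \ U.1, GStrat (Piece' f) G') : GStrat (Piece' f) G := by
  let fU : pullback f U.2.fromSpec ⟶ Spec (CommRingCat.of Γ(S, U.1)) := pullback.snd f U.2.fromSpec
  have hstrat : Stratified (PieceRing fU) (⊥ : Ideal Γ(S, U.1)) := stratified_pieceRing fU
  suffices H : ∀ I : Ideal Γ(S, U.1), Stratified (PieceRing fU) I →
      ∀ G : Set S, G ∩ U.1 ⊆ S.zeroLocus (U := U.1) I → (∀ G' ⊆ G \ U.1, GStrat (Piece' f) G') →
        GStrat (Piece' f) G by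
    refine H ⊥ hstrat G ?_ hrec
    intro x _
    simp
  intro I hI
  induction hI with
  | top =>
    intro G hG hrec
    refine hrec G fun x hx => ⟨hx, fun hxU => ?_⟩
    exact ((S.mem_zeroLocus_iff _ x).mp (hG ⟨hx, hxU⟩) 1 Submodule.mem_top)
      (by rw [S.basicOpen_of_isUnit isUnit_one]; exact hxU)
  | @step I a J hJ haJ hP _ ih =>
    intro G hG hrec
    set ρ := (S.presheaf.map (homOfLE (S.basicOpen_le a)).op).hom with hρ
    refine .step (S.affineBasicOpen a) (J.map ρ) (Ideal.FG.map hJ ρ) ?_ ?_ (ih _ ?_ ?_)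
    · rintro x ⟨hxG, hxa : x ∈ S.basicOpen a⟩
      have hxI := hG ⟨hxG, S.basicOpen_le a hxa⟩
      rw [Scheme.mem_zeroLocus_iff]
      have hsub : (J.map ρ : Set Γ(S, S.basicOpen a)) ⊆ Ideal.comap (S.presheaf.germ _ x hxa).hom
          (IsLocalRing.maximalIdeal (S.presheaf.stalk x)) := by
        refine SetLike.coe_subset_coe.mpr (Ideal.map_le_iff_le_comap.mpr fun j hj => ?_)
        have hmem : a * j ∈ I.radical := haJ (Ideal.mul_mem_mul (Ideal.mem_span_singleton_self a) hj)
        obtain ⟨m, hm⟩ := hmem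
        have h1 : ¬ IsUnit (S.presheaf.germ _ x (S.basicOpen_le a hxa) ((a * j) ^ m)) := fun hu =>
          (S.mem_zeroLocus_iff _ x).mp hxI _ hm ((Scheme.mem_basicOpen S _ x _).mpr hu)
        have ha : IsUnit (S.presheaf.germ _ x (S.basicOpen_le a hxa) a) := (Scheme.mem_basicOpen S _ x _).mp hxa
        rw [Ideal.mem_comap, Ideal.mem_comap, IsLocalRing.mem_maximalIdeal, mem_nonunits_iff]
        intro hu
        apply h1
        rw [map_pow, map_mul]
        refine ((ha.mul ?_).pow m)
        have h2 := TopCat.Presheaf.germ_res_apply S.presheaf (homOfLE (S.basicOpen_le a)) x hxa j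
        exact h2 ▸ hu
      intro y hy hb
      exact (IsLocalRing.mem_maximalIdeal _).mp (hsub hy) ((Scheme.mem_basicOpen S y x hxa).mp hb)
    · let C : Type u := Γ(S, S.basicOpen a) ⧸ J.map ρ
      letI : Algebra Γ(S, U.1) C := ((Ideal.Quotient.mk (J.map ρ)).comp ρ).toAlgebra
      have h := hP C ((RingedSpace.isUnit_res_basicOpen _ a).map (Ideal.Quotient.mk (J.map ρ)))
        (by
          show J.map ((Ideal.Quotient.mk (J.map ρ)).comp ρ) = ⊥
          rw [← Ideal.map_map, Ideal.map_quotient_self])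
      have h' := (goodMap_iff_of_isPullback (IsPullback.of_hasPullback f U.2.fromSpec) _).1 h
      rw [RingHom.algebraMap_toAlgebra, CommRingCat.ofHom_comp, Spec.map_comp, Category.assoc] at h'
      have e : Spec.map (CommRingCat.ofHom ρ) ≫ U.2.fromSpec = (S.affineBasicOpen a).2.fromSpec :=
        U.2.map_fromSpec (S.affineBasicOpen a).2 (homOfLE (S.basicOpen_le a)).op
      rw [e] at h'
      exact h'
    · rintro x ⟨⟨hxG, hxna⟩, hxU⟩
      rw [Scheme.mem_zeroLocus_iff]
      intro y hy hb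
      have hle : I ⊔ Ideal.span {a} ≤ Ideal.comap (S.presheaf.germ _ x hxU).hom
          (IsLocalRing.maximalIdeal (S.presheaf.stalk x)) := by
        refine sup_le (fun z hz => ?_) ((Ideal.span_singleton_le_iff_mem _).mpr ?_)
        · rw [Ideal.mem_comap, IsLocalRing.mem_maximalIdeal, mem_nonunits_iff]
          exact fun hu => (S.mem_zeroLocus_iff _ x).mp (hG ⟨hxG, hxU⟩) z hz ((Scheme.mem_basicOpen S z x hxU).mpr hu)
        · rw [Ideal.mem_comap, IsLocalRing.mem_maximalIdeal, mem_nonunits_iff]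
          exact fun hu => hxna ((Scheme.mem_basicOpen S a x hxU).mpr hu)
      exact (IsLocalRing.mem_maximalIdeal _).mp (hle hy) ((Scheme.mem_basicOpen S y x hxU).mp hb)
    · intro G' hG'
      exact hrec G' (hG'.trans fun x hx => ⟨hx.1.1, hx.2⟩)

theorem gStrat_univ [CompactSpace S] [LocallyOfFinitePresentation f] [QuasiCompact f] [QuasiSeparated f] :
    GStrat (Piece' f) Set.univ := by
  classical
  obtain ⟨s, hs, hcov⟩ := Groth.L19.Approx.exists_finite_affineOpens (U := (⊤ : S.Opens)) isCompact_univ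
  suffices H : ∀ t : Finset S.affineOpens, ∀ G : Set S, (G ⊆ ⋃ U ∈ t, (U.1 : Set S)) → GStrat (Piece' f) G by
    refine H hs.toFinset _ fun x _ => ?_
    have hx : x ∈ (⊤ : S.Opens) := trivial
    rw [hcov, Opens.mem_iSup] at hx
    obtain ⟨V, hV⟩ := hx
    exact Set.mem_biUnion (hs.mem_toFinset.mpr V.2) hV
  intro t
  induction t using Finset.induction with
  | empty =>
    intro G hG
    rw [show G = ∅ from Set.subset_empty_iff.mp (by simpa using hG)]
    exact .empty
  | insert U t _ ih =>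
    intro G hG
    refine gStrat_affine f U G fun G' hG' => ih G' fun x hx => ?_
    obtain ⟨hxG, hxU⟩ := hG' hx
    have := hG hxG
    rw [Finset.set_biUnion_insert] at this
    exact this.resolve_left hxU

/-- The chain of a decomposition, each stratum lying in a single piece. -/
theorem exists_chain [CompactSpace S] [QuasiSeparatedSpace S] {P : ∀ O : S.affineOpens, Ideal Γ(S, O.1) → Prop}
    {G : Set S} (h : GStrat P G) (I₀ : S.IdealSheafData) (hfg : ∀ V : S.affineOpens, (I₀.ideal V).FG)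
    (hG : (I₀.support : Set S) = G) :
    ∃ (t : ℕ) (I : Fin (t + 1) → S.IdealSheafData), I₀ ≤ I 0 ∧ Monotone I ∧ I (Fin.last t) = ⊤ ∧
      ((I 0).support : Set S) = G ∧ (∀ i, ∀ V : S.affineOpens, ((I i).ideal V).FG) ∧
      ∀ i : Fin t, ∃ (O : S.affineOpens) (J : Ideal Γ(S, O.1)),
        ((I i.castSucc).support : Set S) \ (I i.succ).support ⊆ O.1 ∧ J ≤ (I i.castSucc).ideal O ∧ P O J := by
  induction h generalizing I₀ with
  | empty =>
    have htop : I₀ = ⊤ := (Scheme.IdealSheafData.support_eq_bot_iff (I := I₀)).mp (SetLike.coe_injective (hG.trans rfl))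
    exact ⟨0, fun _ => I₀, le_rfl, monotone_const, htop, hG, fun _ => hfg, fun i => i.elim0⟩
  | @step G O J hJ hGJ hP hrec ih =>
    obtain ⟨K, hKfg, hKG, hKO⟩ := exists_fg_extension I₀.support O J hJ (hG ▸ hGJ)
    obtain ⟨H, hHfg, hHG, hHO⟩ := exists_fg_extension
      ⟨G \ O.1, (hG ▸ I₀.support.isClosed).sdiff O.1.2⟩ O ⊤ ⟨{1}, by simp⟩
      (fun x hx => absurd hx.2 hx.1.2)
    have hK' : ((I₀ ⊔ K).support : Set S) = G := by
      rw [support_sup_eq, Set.inter_eq_left.mpr hKG, hG]
    have hH' : (((I₀ ⊔ K) ⊔ H).support : Set S) = G \ O.1 := by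
      rw [support_sup_eq, hK']
      refine Set.Subset.antisymm (fun x hx => ⟨hx.1, fun hxO => ?_⟩) (fun x hx => ⟨hx.1, hHG hx⟩)
      have := (Scheme.IdealSheafData.mem_support_iff_of_mem hxO).mp hx.2
      rw [hHO] at this
      have h2 := (S.mem_zeroLocus_iff _ x).mp this 1 Submodule.mem_top
      exact h2 (by rw [S.basicOpen_of_isUnit isUnit_one]; exact hxO)
    obtain ⟨t, I, h0, hmono, hlast, hsupp, hfgI, hgood⟩ := ih ((I₀ ⊔ K) ⊔ H)
      (fun V => Submodule.FG.sup (Submodule.FG.sup (hfg V) (hKfg V)) (hHfg V)) hH'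
    refine ⟨t + 1, Fin.cons (I₀ ⊔ K) I, ?_, ?_, ?_, ?_, ?_, ?_⟩
    · exact le_sup_left
    · refine Fin.monotone_iff_le_succ.mpr fun i => ?_
      cases i using Fin.cases with
      | zero => simpa using le_sup_left.trans h0
      | succ j => simpa [← Fin.succ_castSucc] using hmono (Fin.castSucc_le_succ j)
    · rw [← Fin.succ_last, Fin.cons_succ]; exact hlast
    · simpa using hK'
    · intro i V
      cases i using Fin.cases with
      | zero => rw [Fin.cons_zero]; exact Submodule.FG.sup (hfg V) (hKfg V)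
      | succ j => simpa using hfgI j V
    · intro i
      cases i using Fin.cases with
      | zero =>
        refine ⟨O, J, fun s hs => ?_, ?_, hP⟩
        · simp only [Fin.castSucc_zero, Fin.cons_zero, Fin.cons_succ] at hs
          by_contra hsO
          exact hs.2 (hsupp ▸ (⟨hK' ▸ hs.1, hsO⟩ : s ∈ G \ O.1))
        · rw [Fin.castSucc_zero, Fin.cons_zero]
          exact hKO.ge.trans ((le_sup_right : K ≤ I₀ ⊔ K) O)
      | succ j =>
        simp only [← Fin.succ_castSucc, Fin.cons_succ]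
        exact hgood j

/-- The strata of a chain map to the pieces. -/
theorem goodMap_stratum (A B : S.IdealSheafData) (O : S.affineOpens) (J : Ideal Γ(S, O.1))
    (hsub : (A.support : Set S) \ B.support ⊆ O.1) (hJ : J ≤ A.ideal O) (hP : Piece' f O J) :
    GoodMap f (stratum A B) := by
  let Z := A.subschemeι ⁻¹ᵁ B.support.compl
  have hrange : Set.range Z.ι ⊆ Set.range (A.subschemeCover.f O) := by
    rw [Scheme.Opens.range_ι, ← Scheme.Hom.coe_opensRange, Scheme.IdealSheafData.opensRange_subschemeCover_map]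
    intro z hz
    exact hsub ⟨A.range_subschemeι ▸ ⟨z, rfl⟩, hz⟩
  have e : IsOpenImmersion.lift (A.subschemeCover.f O) Z.ι hrange ≫
      (Spec.map (CommRingCat.ofHom (Ideal.Quotient.factor hJ)) ≫
        Spec.map (CommRingCat.ofHom (Ideal.Quotient.mk J)) ≫ O.2.fromSpec) = stratum A B := by
    rw [← Spec.map_comp_assoc, ← CommRingCat.ofHom_comp, Ideal.Quotient.factor_comp_mk,
      ← Scheme.IdealSheafData.glueDataObjι_ι, ← Scheme.IdealSheafData.subschemeCover_map_subschemeι,
      IsOpenImmersion.lift_fac_assoc]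
  rw [← e, ← Category.assoc]
  exact hP.comp _

end Groth.L20.SmoothStrat
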