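import Groth.Agent.L20.GenSmooth.Scheme
import Groth.Agent.L18.KerReduced
import Groth.Agent.L26.AV.SmoothField
import Mathlib.FieldTheory.PurelyInseparable.PerfectClosure
import Mathlib.AlgebraicGeometry.Morphisms.Smooth

/-!
# Smooth stratifications after a finite purely inseparable extension

A scheme of finite type over a field has, after a finite purely inseparable extension of the field,
a finite stratification by closed subsets whose reduced strata are smooth.
-/

set_option autoImplicit false
set_option linter.style.haveILetI false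
set_option maxSynthPendingDepth 3
set_option backward.isDefEq.respectTransparency.types false

universe u

open CategoryTheory CategoryTheory.Limits AlgebraicGeometry TopologicalSpace

namespace Groth.L20.SmoothStrat

variable {k : Type u} [Field k] {X : Scheme.{u}} (f : X ⟶ Spec (CommRingCat.of k))

/-- The morphism of spectra of a field extension. -/
noncomputable abbrev ext (k L : Type u) [Field k] [Field L] [Algebra k L] :
    Spec (CommRingCat.of L) ⟶ Spec (CommRingCat.of k) :=
  Spec.map (CommRingCat.ofHom (algebraMap k L))

/-- A subset whose preimage over `L` is the image of a smooth `L`-scheme immersed in `X_L`. -/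
def Piece (L : Type u) [Field L] [Algebra k L] (T : Set X) : Prop :=
  ∃ (W : Scheme.{u}) (j : W ⟶ pullback f (ext k L)), IsImmersion j ∧
    Smooth (j ≫ pullback.snd f (ext k L)) ∧ Set.range j = pullback.fst f (ext k L) ⁻¹' T

theorem Piece.mono {L : Type u} [Field L] [Algebra k L] (L' : Type u) [Field L'] [Algebra k L']
    [Algebra L L'] [IsScalarTower k L L'] {T : Set X} (h : Piece f L T) : Piece f L' T := by
  obtain ⟨W, j, hj, hs, hr⟩ := h
  have hg : ext k L' = ext L L' ≫ ext k L := by
    rw [ext, ext, ext, ← Spec.map_comp, IsScalarTower.algebraMap_eq k L L']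
    rfl
  let π : pullback f (ext k L') ⟶ pullback f (ext k L) :=
    pullback.lift (pullback.fst f (ext k L')) (pullback.snd f (ext k L') ≫ ext L L') (by
      rw [Category.assoc, ← hg, pullback.condition])
  have sq : IsPullback π (pullback.snd f (ext k L')) (pullback.snd f (ext k L)) (ext L L') := by
    refine IsPullback.of_right ?_ (pullback.lift_snd _ _ _) (IsPullback.of_hasPullback f (ext k L))
    have := IsPullback.of_hasPullback f (ext k L')
    rw [pullback.lift_fst]
    exact hg ▸ this
  refine ⟨pullback j π, pullback.snd j π, inferInstance, ?_, ?_⟩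
  · exact MorphismProperty.of_isPullback ((IsPullback.of_hasPullback j π).paste_vert sq) hs
  · rw [Scheme.Pullback.range_snd, hr, ← Set.preimage_comp, ← TopCat.coe_comp, ← Scheme.Hom.comp_base,
      pullback.lift_fst]

/-- An ordered decomposition of a closed set into pieces. -/
inductive Strat (L : Type u) [Field L] [Algebra k L] : Set X → Prop
  | empty : Strat L ∅
  | step {G G' : Set X} : IsClosed G → G' ⊆ G → Piece f L (G \ G') → Strat L G' → Strat L G

theorem Strat.mono {L : Type u} [Field L] [Algebra k L] (L' : Type u) [Field L'] [Algebra k L']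
    [Algebra L L'] [IsScalarTower k L L'] {G : Set X} (h : Strat f L G) : Strat f L' G := by
  induction h with
  | empty => exact .empty
  | step hG hle hp _ ih => exact .step hG hle (hp.mono f L') ih

/-- One step: a dense open of a closed subset is a piece over some extension. -/
theorem exists_piece [LocallyOfFiniteType f] [QuasiCompact f] (G : Closeds X) (hG : (G : Set X).Nonempty) :
    ∃ (G' : Closeds X), G' < G ∧ ∃ (k' : Type u) (_ : Field k') (_ : Algebra k k')
      (_ : Module.Finite k k') (_ : IsPurelyInseparable k k'), Piece f k' ((G : Set X) \ G') := by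
  let I := Scheme.IdealSheafData.vanishingIdeal G
  have hr : Set.range I.subschemeι = (G : Set X) := by
    rw [Scheme.IdealSheafData.range_subschemeι]
    exact Scheme.IdealSheafData.coe_support_vanishingIdeal G
  obtain ⟨U, hU, k', _, _, _, _, Z, _, i, hi, his, hsm⟩ :=
    Groth.L20.GenSmooth.exists_dense_open_smooth k (I.subschemeι ≫ f)
  have hne : (U : Set I.subscheme).Nonempty := by
    obtain ⟨x, hx⟩ := hG
    obtain ⟨z, -⟩ : x ∈ Set.range I.subschemeι := hr.symm ▸ hx
    haveI : Nonempty I.subscheme := ⟨z⟩
    exact hU.nonempty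
  let G' : Closeds X := ⟨I.subschemeι '' (U : Set I.subscheme)ᶜ,
    I.subschemeι.isClosedEmbedding.isClosedMap _ U.2.isClosed_compl⟩
  have hsub : (G' : Set X) ⊆ G := by
    rintro _ ⟨z, -, rfl⟩
    exact hr ▸ ⟨z, rfl⟩
  have hdiff : (G : Set X) \ G' = Set.range (U.ι ≫ I.subschemeι) := by
    rw [Scheme.Hom.comp_base, TopCat.coe_comp, Set.range_comp, Scheme.Opens.range_ι, ← hr]
    show Set.range _ \ (I.subschemeι '' _) = _
    rw [← Set.image_univ, ← Set.image_sdiff I.subschemeι.isEmbedding.injective]
    simp
  refine ⟨G', ⟨hsub, fun hle => ?_⟩, k', inferInstance, inferInstance, inferInstance, inferInstance, ?_⟩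
  · obtain ⟨z, hz⟩ := hne
    obtain ⟨w, hw, he⟩ := hle (show I.subschemeι z ∈ (G : Set X) from hr ▸ ⟨z, rfl⟩)
    exact hw (I.subschemeι.isEmbedding.injective he ▸ hz)
  let e := pullbackRightPullbackFstIso f (ext k k') (U.ι ≫ I.subschemeι) ≪≫
    pullback.congrHom (Category.assoc U.ι I.subschemeι f) rfl
  refine ⟨Z, i ≫ e.inv ≫ pullback.snd (U.ι ≫ I.subschemeι) (pullback.fst f (ext k k')), inferInstance, ?_, ?_⟩
  · have he : e.inv ≫ pullback.snd (U.ι ≫ I.subschemeι) (pullback.fst f (ext k k')) ≫
        pullback.snd f (ext k k') = pullback.snd (U.ι ≫ I.subschemeι ≫ f) (ext k k') := by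
      simp [e, pullback.lift_snd]
    rw [Category.assoc, Category.assoc, he]
    exact hsm
  · have hs : Function.Surjective (i ≫ e.inv).base := by
      rw [Scheme.Hom.comp_base, TopCat.coe_comp]
      exact e.inv.surjective.comp his
    rw [← Category.assoc, Scheme.Hom.comp_base, TopCat.coe_comp, Set.range_comp, hs.range_eq,
      Set.image_univ, Scheme.Pullback.range_snd, hdiff]

/-- Every closed subset is stratified by smooth pieces after a finite purely inseparable extension. -/
theorem exists_strat [LocallyOfFiniteType f] [QuasiCompact f] (Ω : Type u) [Field Ω] [Algebra k Ω]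
    [IsAlgClosed Ω] (G : Closeds X) :
    ∃ L : IntermediateField k Ω, Module.Finite k L ∧ L ≤ perfectClosure k Ω ∧ Strat f L (G : Set X) := by
  haveI : IsLocallyNoetherian X := LocallyOfFiniteType.isLocallyNoetherian f
  haveI : CompactSpace X := QuasiCompact.compactSpace_of_compactSpace f
  haveI : AlgebraicGeometry.IsNoetherian X := ⟨⟩
  induction G using WellFoundedLT.induction with
  | _ G ih =>
    rcases (G : Set X).eq_empty_or_nonempty with hG | hG
    · exact ⟨⊥, inferInstance, bot_le, hG ▸ .empty⟩
    obtain ⟨G', hlt, k', _, _, _, _, hp⟩ := exists_piece f G hG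
    obtain ⟨L₂, hfin, hle, hst⟩ := ih G' hlt
    haveI : Algebra.IsAlgebraic k k' := Algebra.IsAlgebraic.of_finite k k'
    let σ : k' →ₐ[k] Ω := IsAlgClosed.lift
    let e : k' ≃ₐ[k] σ.fieldRange := AlgEquiv.ofInjectiveField σ
    haveI : Module.Finite k σ.fieldRange := Module.Finite.equiv e.toLinearEquiv
    haveI : IsPurelyInseparable k σ.fieldRange := e.isPurelyInseparable
    haveI := hfin
    let L := σ.fieldRange ⊔ L₂
    refine ⟨L, inferInstance, sup_le ((le_perfectClosure_iff k Ω _).2 inferInstance) hle,
      .step G.2 hlt.le ?_ ?_⟩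
    · letI : Algebra k' L := ((IntermediateField.inclusion (le_sup_left : σ.fieldRange ≤ L)).comp
        e.toAlgHom).toRingHom.toAlgebra
      haveI : IsScalarTower k k' L := IsScalarTower.of_algebraMap_eq fun c =>
        (((IntermediateField.inclusion (le_sup_left : σ.fieldRange ≤ L)).comp e.toAlgHom).commutes c).symm
      exact hp.mono f L
    · letI : Algebra L₂ L := (IntermediateField.inclusion (le_sup_right : L₂ ≤ L)).toRingHom.toAlgebra
      haveI : IsScalarTower k L₂ L := IsScalarTower.of_algebraMap_eq fun c =>
        ((IntermediateField.inclusion (le_sup_right : L₂ ≤ L)).commutes c).symm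
      exact hst.mono f L

/-- A reduced immersed subscheme is determined by its underlying set. -/
theorem exists_iso_of_range_eq {Y T W : Scheme.{u}} (t : T ⟶ Y) (w : W ⟶ Y) [IsImmersion t]
    [IsImmersion w] [IsReduced T] [IsReduced W] (h : Set.range t = Set.range w) :
    ∃ e : T ≅ W, e.hom ≫ w = t := by
  have h1 : Function.Surjective (pullback.fst t w) := by
    rw [← Set.range_eq_univ, Scheme.Pullback.range_fst, ← h, Set.preimage_range]
  have h2 : Function.Surjective (pullback.snd t w) := by
    rw [← Set.range_eq_univ, Scheme.Pullback.range_snd, h, Set.preimage_range]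
  haveI : IsClosedImmersion (pullback.fst t w) :=
    .of_isPreimmersion _ (by rw [h1.range_eq]; exact isClosed_univ)
  haveI : IsClosedImmersion (pullback.snd t w) :=
    .of_isPreimmersion _ (by rw [h2.range_eq]; exact isClosed_univ)
  haveI : Surjective (pullback.fst t w) := ⟨h1⟩
  haveI : Surjective (pullback.snd t w) := ⟨h2⟩
  haveI := isIso_of_isClosedImmersion_of_surjective (pullback.fst t w)
  haveI := isIso_of_isClosedImmersion_of_surjective (pullback.snd t w)
  exact ⟨(asIso (pullback.fst t w)).symm ≪≫ asIso (pullback.snd t w),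
    by rw [Iso.trans_hom, Category.assoc, Iso.symm_hom, asIso_hom, ← pullback.condition, asIso_inv,
      IsIso.inv_hom_id_assoc]⟩

/-- The stratum between two ideal sheaves. -/
noncomputable abbrev stratum {Y : Scheme.{u}} (A B : Y.IdealSheafData) :
    (A.subschemeι ⁻¹ᵁ B.support.compl).toScheme ⟶ Y :=
  (A.subschemeι ⁻¹ᵁ B.support.compl).ι ≫ A.subschemeι

theorem range_stratum {Y : Scheme.{u}} (A B : Y.IdealSheafData) :
    Set.range (stratum A B) = (A.support : Set Y) \ B.support := by
  rw [Scheme.Hom.comp_base, TopCat.coe_comp, Set.range_comp, Scheme.Opens.range_ι]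
  show A.subschemeι '' (A.subschemeι ⁻¹' (B.support : Set Y)ᶜ) = _
  rw [Set.image_preimage_eq_inter_range, Scheme.IdealSheafData.range_subschemeι, Set.inter_comm,
    Set.sdiff_eq]

theorem smooth_stratum_congr {Y S : Scheme.{u}} (p : Y ⟶ S) {A A' B B' : Y.IdealSheafData} (hA : A = A')
    (hB : B = B') (h : Smooth (stratum A B ≫ p)) : Smooth (stratum A' B' ≫ p) := by
  subst hA hB; exact h

/-- The chain of reduced closed subschemes of a decomposition. -/
theorem Strat.exists_chain {L : Type u} [Field L] [Algebra k L] {G : Set X} (h : Strat f L G)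
    (hG : IsClosed G) :
    ∃ (t : ℕ) (I : Fin (t + 1) → (pullback f (ext k L)).IdealSheafData), Monotone I ∧
      I 0 = Scheme.IdealSheafData.vanishingIdeal
        ((⟨G, hG⟩ : Closeds X).preimage (pullback.fst f (ext k L)).continuous) ∧
      I (Fin.last t) = ⊤ ∧
      ∀ i : Fin t, Smooth (stratum (I i.castSucc) (I i.succ) ≫ pullback.snd f (ext k L)) := by
  induction h with
  | empty =>
    refine ⟨0, fun _ => ⊤, monotone_const, ?_, rfl, fun i => i.elim0⟩
    rw [show (⟨(∅ : Set X), hG⟩ : Closeds X).preimage (pullback.fst f (ext k L)).continuous = ⊥ from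
      SetLike.coe_injective rfl, Scheme.IdealSheafData.vanishingIdeal_bot]
  | @step G G' hGc hle hp hrec ih =>
    have hG' : IsClosed G' := by cases hrec with
      | empty => exact isClosed_empty
      | step h _ _ _ => exact h
    obtain ⟨t, I, hmono, h0, hlast, hsm⟩ := ih hG'
    let I₀ := Scheme.IdealSheafData.vanishingIdeal
      ((⟨G, hG⟩ : Closeds X).preimage (pullback.fst f (ext k L)).continuous)
    refine ⟨t + 1, Fin.cons I₀ I, ?_, Fin.cons_zero _ _, ?_, ?_⟩
    · refine Fin.monotone_iff_le_succ.mpr fun i => ?_
      cases i using Fin.cases with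
      | zero =>
        simp only [Fin.castSucc_zero, Fin.cons_zero, Fin.cons_succ, h0]
        exact Scheme.IdealSheafData.vanishingIdeal_antimono fun x hx => hle hx
      | succ j => simpa [← Fin.succ_castSucc] using hmono (Fin.castSucc_le_succ j)
    · rw [← Fin.succ_last, Fin.cons_succ]; exact hlast
    intro i
    cases i using Fin.cases with
    | zero =>
      obtain ⟨W, w, hw, hsw, hr⟩ := hp
      haveI : IsReduced W := Groth.Agent.AV.isReduced_of_smooth_field (w ≫ pullback.snd f (ext k L))
      let B := Scheme.IdealSheafData.vanishingIdeal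
        ((⟨G', hG'⟩ : Closeds X).preimage (pullback.fst f (ext k L)).continuous)
      refine smooth_stratum_congr _ (A := I₀) (B := B) (by simp) (by simp [h0, B]) ?_
      haveI : IsReduced I₀.subscheme := Groth.L18.isReduced_vanishingIdeal_subscheme _
      obtain ⟨e, he⟩ := exists_iso_of_range_eq (stratum I₀ B) w (by
        rw [range_stratum, hr, Scheme.IdealSheafData.coe_support_vanishingIdeal,
          Scheme.IdealSheafData.coe_support_vanishingIdeal, Set.preimage_sdiff]
        rfl)
      rw [← he, Category.assoc]
      exact MorphismProperty.comp_mem _ _ _ (inferInstance : Smooth e.hom) hsw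
    | succ j =>
      exact smooth_stratum_congr _ (A := I j.castSucc) (B := I j.succ)
        (by rw [← Fin.succ_castSucc, Fin.cons_succ]) (by rw [Fin.cons_succ]) (hsm j)

end Groth.L20.SmoothStrat
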